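import Cfsg.Agent.Lib.SolBase.Colouring

/-!
Five inequivalent distinguishing five-colourings of a transitive soluble permutation group.
-/

set_option autoImplicit false
set_option linter.style.haveILetI false

namespace Cfsg.Agent.SolBase

open scoped commutatorElement

universe u v

variable {G : Type u} [Group G]

/-- The primitive case: a coset space of a maximal subgroup. -/
lemma five_of_coatom [Finite G] (hsol : Group.IsSolvable G) {U : Subgroup G} (hU : IsCoatom U) :
    ∃ f : Fin 5 → G ⧸ U → Fin 5, ∀ i j (g : G), (∀ ω, f i (g • ω) = f j ω) → i = j ∧ ∀ ω : G ⧸ U, g • ω = ω := by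
  classical
  obtain ⟨l, hl⟩ := hsol.solvable
  have hex : ∃ k, derivedSeries G k ≤ U.normalCore := ⟨l, hl.le.trans bot_le⟩
  have hk0 : Nat.find hex ≠ 0 := fun h => hU.1 (by
    have := Nat.find_spec hex
    rw [h, derivedSeries_zero] at this
    exact top_le_iff.1 (this.trans U.normalCore_le))
  set D := derivedSeries G (Nat.find hex - 1) with hD
  haveI hDn : D.Normal := derivedSeries_normal G _
  have hDD : ∀ a ∈ D, ∀ b ∈ D, ⁅a, b⁆ ∈ U.normalCore := fun a ha b hb => by
    have h1 := Nat.find_spec hex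
    rw [show Nat.find hex = Nat.find hex - 1 + 1 by omega, derivedSeries_succ] at h1
    exact h1 (Subgroup.commutator_mem_commutator ha hb)
  have hDU : ¬ D ≤ U := fun h => Nat.find_min hex (show Nat.find hex - 1 < Nat.find hex by omega)
    (Subgroup.normal_le_normalCore.2 h)
  have htop : D ⊔ U = ⊤ := hU.2 _ (right_lt_sup.2 hDU)
  have hmul : ∀ g : G, ∃ d ∈ D, ∃ u ∈ U, g = d * u := fun g => by
    have : g ∈ ((D ⊔ U : Subgroup G) : Set G) := by rw [htop]; trivial
    rw [Subgroup.normal_mul] at this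
    obtain ⟨d, hd, u, hu, rfl⟩ := this
    exact ⟨d, hd, u, hu, rfl⟩
  have hcap : ∀ x ∈ D, x ∈ U → x ∈ U.normalCore := by
    intro x hx hxU g
    obtain ⟨d, hd, u, hu, rfl⟩ := hmul g
    have hy : u * x * u⁻¹ ∈ U := U.mul_mem (U.mul_mem hu hxU) (U.inv_mem hu)
    have : d * u * x * (d * u)⁻¹ = ⁅d, u * x * u⁻¹⁆ * (u * x * u⁻¹) := by
      rw [commutatorElement_def]; group
    rw [this]
    exact U.mul_mem (U.normalCore_le (hDD d hd _ (hDn.conj_mem x hx u))) hy
  haveI : ((U.normalCore).subgroupOf D).Normal := inferInstance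
  let W := D ⧸ (U.normalCore).subgroupOf D
  letI : CommGroup W :=
    { (inferInstance : Group W) with
      mul_comm := fun x y => by
        obtain ⟨a, rfl⟩ := QuotientGroup.mk_surjective x
        obtain ⟨b, rfl⟩ := QuotientGroup.mk_surjective y
        rw [← QuotientGroup.mk_mul, ← QuotientGroup.mk_mul, QuotientGroup.eq]
        show (((a * b)⁻¹ * (b * a) : D) : G) ∈ U.normalCore
        have h : (((a * b)⁻¹ * (b * a) : D) : G) = ⁅(b : G)⁻¹, (a : G)⁻¹⁆ := by
          push_cast; rw [commutatorElement_def]; group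
        rw [h]
        exact hDD _ (inv_mem b.2) _ (inv_mem a.2) }
  let ψ : W → G ⧸ U := Quotient.lift (fun d : D => ((d : G) : G ⧸ U)) (fun a b h => by
    have h' := (QuotientGroup.leftRel_apply.1 h)
    exact QuotientGroup.eq.2 (U.normalCore_le h'))
  have hψmk : ∀ d : D, ψ (d : W) = ((d : G) : G ⧸ U) := fun d => rfl
  have hψ : Function.Bijective ψ := by
    constructor
    · intro x y h
      obtain ⟨a, rfl⟩ := QuotientGroup.mk_surjective x
      obtain ⟨b, rfl⟩ := QuotientGroup.mk_surjective y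
      rw [hψmk, hψmk, QuotientGroup.eq] at h
      rw [QuotientGroup.eq]
      exact hcap _ (D.mul_mem (inv_mem a.2) b.2) h
    · intro ω
      obtain ⟨g, rfl⟩ := QuotientGroup.mk_surjective ω
      obtain ⟨d, hd, u, hu, rfl⟩ := hmul g
      refine ⟨((⟨d, hd⟩ : D) : W), ?_⟩
      rw [hψmk, QuotientGroup.eq]
      simpa using hu
  let Ψ := Equiv.ofBijective ψ hψ
  obtain ⟨φ, h0, hrig, ⟨c, c', hcc⟩, -⟩ := exists_colouring W
  refine ⟨fun i ω => φ (Ψ.symm ω) + i, fun i j g hg => ?_⟩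
  let M : W ≃ W := Ψ.trans ((MulAction.toPerm g).trans Ψ.symm)
  have hM : ∀ w, φ (M w) = φ w + (j - i) := by
    intro w
    have := hg (Ψ w)
    simp only [Ψ.symm_apply_apply] at this
    rw [show φ (M w) = φ (Ψ.symm (g • Ψ w)) from rfl, eq_sub_of_add_eq this, add_sub_assoc]
  have hij : j - i = 0 := shift_eq_zero φ hcc M hM
  have hij' : i = j := (sub_eq_zero.1 hij).symm
  refine ⟨hij', ?_⟩
  have hM' : ∀ w, φ (M w) = φ w := fun w => by rw [hM, hij, add_zero]
  have hgU : g ∈ U := by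
    have h1 : M 1 = 1 := (h0 _).1 ((hM' 1).trans ((h0 1).2 rfl))
    have h2 : g • Ψ 1 = Ψ 1 := Ψ.symm.injective (by rw [Ψ.symm_apply_apply]; exact h1)
    rw [show Ψ 1 = ((1 : G) : G ⧸ U) from rfl, MulAction.Quotient.smul_mk, smul_eq_mul, mul_one,
      QuotientGroup.eq, mul_one] at h2
    simpa using h2
  let cg : W →* W := QuotientGroup.map _ _ (MulAut.conjNormal (H := D) g).toMonoidHom (fun x hx => by
    show ((MulAut.conjNormal g x : D) : G) ∈ U.normalCore
    rw [MulAut.conjNormal_apply]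
    exact U.normalCore_normal.conj_mem _ hx g)
  have hcg : ∀ w, M w = cg w := by
    intro w
    obtain ⟨d, rfl⟩ := QuotientGroup.mk_surjective w
    refine Ψ.injective ?_
    show Ψ (Ψ.symm (g • Ψ (d : W))) = _
    rw [Ψ.apply_symm_apply]
    show g • ψ (d : W) = ψ ((MulAut.conjNormal g d : D) : W)
    rw [hψmk, hψmk, MulAction.Quotient.smul_mk, smul_eq_mul, QuotientGroup.eq, MulAut.conjNormal_apply]
    have e : (g * (d : G))⁻¹ * (g * d * g⁻¹) = g⁻¹ := by group
    rw [e]
    exact U.inv_mem hgU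
  have hid := hrig cg (fun x y h => M.injective (by rw [hcg, hcg, h])) (fun w => by rw [← hcg, hM'])
  intro ω
  obtain ⟨w, rfl⟩ := Ψ.surjective ω
  refine Ψ.symm.injective ?_
  rw [Ψ.symm_apply_apply]
  exact (hcg w).trans (DFunLike.congr_fun hid w)

/-- Five inequivalent distinguishing colourings of a coset space. -/
theorem five_colourings : ∀ (n : ℕ) (G : Type u) [Group G] [Finite G], Group.IsSolvable G →
    ∀ U : Subgroup G, U ≠ ⊤ → U.index = n →
      ∃ f : Fin 5 → G ⧸ U → Fin 5, ∀ i j (g : G), (∀ ω, f i (g • ω) = f j ω) →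
        i = j ∧ ∀ ω : G ⧸ U, g • ω = ω := by
  intro n
  induction n using Nat.strong_induction_on with
  | _ n ih =>
  intro G _ _ hsol U hU hn
  classical
  by_cases hmax : IsCoatom U
  · exact five_of_coatom hsol hmax
  obtain ⟨K, hUK, hK⟩ : ∃ K, U < K ∧ K ≠ ⊤ := by
    unfold IsCoatom at hmax
    push Not at hmax
    exact hmax hU
  have hidx := Subgroup.relIndex_mul_index hUK.le
  have h1 : 1 < K.index := Nat.one_lt_iff_ne_zero_and_ne_one.2 ⟨Subgroup.index_ne_zero_of_finite, fun h => hK (Subgroup.index_eq_one.1 h)⟩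
  have h2 : 1 < U.relIndex K := Nat.one_lt_iff_ne_zero_and_ne_one.2
    ⟨Subgroup.index_ne_zero_of_finite, fun h => hUK.not_ge (Subgroup.relIndex_eq_one.1 h)⟩
  obtain ⟨F, hF⟩ := ih K.index (by rw [← hn, ← hidx]; exact lt_mul_of_one_lt_left (by omega) h2) G hsol K hK rfl
  haveI : Group.IsSolvable G := hsol
  obtain ⟨q, hq⟩ := ih (U.relIndex K) (by rw [← hn, ← hidx]; exact lt_mul_of_one_lt_right (by omega) h1) K
    inferInstance (U.subgroupOf K) (fun h => hUK.not_ge (Subgroup.subgroupOf_eq_top.1 h)) rfl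
  let s : G ⧸ K → G := Quotient.out
  have hs : ∀ v : G ⧸ K, ((s v : G) : G ⧸ K) = v := fun v => Quotient.out_eq' v
  have hmem : ∀ x : G, (s (x : G ⧸ K))⁻¹ * x ∈ K := fun x => QuotientGroup.eq.1 (hs _)
  let f : Fin 5 → G ⧸ U → Fin 5 := fun i ω =>
    q (F i ((Quotient.out ω : G) : G ⧸ K)) ((⟨_, hmem (Quotient.out ω)⟩ : K) : K ⧸ U.subgroupOf K)
  have hf : ∀ i v (k : K), f i ((s v * k : G) : G ⧸ U) = q (F i v) (k : K ⧸ U.subgroupOf K) := by
    intro i v k
    obtain ⟨⟨u, hu⟩, hx⟩ := QuotientGroup.mk_out_eq_mul U (s v * k)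
    have hv : (((Quotient.out ((s v * k : G) : G ⧸ U)) : G) : G ⧸ K) = v := by
      refine Eq.trans ?_ (hs v)
      rw [QuotientGroup.eq, hx]
      have e : (s v * k * u)⁻¹ * s v = u⁻¹ * (k : G)⁻¹ := by group
      rw [e]
      exact K.mul_mem (K.inv_mem (hUK.le hu)) (K.inv_mem k.2)
    show q (F i _) _ = _
    refine congrArg₂ (fun c y => q c y) (congrArg (F i) hv) ?_
    rw [QuotientGroup.eq, Subgroup.mem_subgroupOf]
    simp only [Subgroup.coe_mul, Subgroup.coe_inv]
    rw [show s (((Quotient.out ((s v * k : G) : G ⧸ U)) : G) : G ⧸ K) = s v from congrArg s hv, hx]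
    have e : ((s v)⁻¹ * (s v * k * u))⁻¹ * (k : G) = u⁻¹ := by group
    rw [e]
    exact U.inv_mem hu
  refine ⟨f, fun i j g hg => ?_⟩
  have hkey : ∀ v, ∃ k : K, g * s v = s (g • v) * k ∧ F i (g • v) = F j v ∧
      ∀ y : K ⧸ U.subgroupOf K, k • y = y := by
    intro v
    have hk : (s (g • v))⁻¹ * (g * s v) ∈ K := by
      rw [← QuotientGroup.eq, hs]
      conv_lhs => rw [← hs v]
      rfl
    refine ⟨⟨_, hk⟩, by simp, ?_⟩
    apply hq
    intro y
    obtain ⟨k', rfl⟩ := QuotientGroup.mk_surjective y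
    rw [MulAction.Quotient.smul_mk, smul_eq_mul, ← hf i (g • v), ← hf j v, ← hg]
    congr 1
    rw [MulAction.Quotient.smul_mk, smul_eq_mul]
    simp [mul_assoc]
  have hFij := hF i j g fun v => let ⟨_, _, h, _⟩ := hkey v; h
  refine ⟨hFij.1, fun ω => ?_⟩
  obtain ⟨x, rfl⟩ := QuotientGroup.mk_surjective ω
  set v : G ⧸ K := (x : G ⧸ K) with hv
  obtain ⟨k, hk1, -, hk2⟩ := hkey v
  rw [hFij.2 v] at hk1
  have h := hk2 ((⟨_, hmem x⟩ : K) : K ⧸ U.subgroupOf K)
  rw [MulAction.Quotient.smul_mk, smul_eq_mul, QuotientGroup.eq, Subgroup.mem_subgroupOf] at h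
  simp only [Subgroup.coe_mul, Subgroup.coe_inv] at h
  rw [MulAction.Quotient.smul_mk, smul_eq_mul, QuotientGroup.eq]
  have e : (g * x)⁻¹ * x = ((k : G) * ((s v)⁻¹ * x))⁻¹ * ((s v)⁻¹ * x) := by
    rw [show (k : G) = (s v)⁻¹ * (g * s v) by rw [hk1]; group]
    group
  rw [e]
  exact h

/-- A transitive soluble group on at least two points has a distinguishing five-colouring. -/
theorem exists_distinguishing {Ω : Type v} [MulAction G Ω] [Finite G] (hsol : Group.IsSolvable G)
    [MulAction.IsPretransitive G Ω] {a b : Ω} (hab : a ≠ b) :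
    ∃ f : Ω → Fin 5, ∀ g : G, (∀ ω, f (g • ω) = f ω) → ∀ ω : Ω, g • ω = ω := by
  let U := MulAction.stabilizer G a
  have hU : U ≠ ⊤ := fun h => by
    obtain ⟨g, hg⟩ := MulAction.exists_smul_eq G a b
    exact hab ((MulAction.mem_stabilizer_iff.1 (h ▸ Subgroup.mem_top g : g ∈ U)).symm.trans hg)
  obtain ⟨f, hf⟩ := five_colourings _ G hsol U hU rfl
  let e : G ⧸ U → Ω := MulAction.ofQuotientStabilizer G a
  have he : Function.Bijective e := ⟨MulAction.injective_ofQuotientStabilizer G a, fun ω => by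
    obtain ⟨g, hg⟩ := MulAction.exists_smul_eq G a ω
    exact ⟨(g : G ⧸ U), hg⟩⟩
  let E := Equiv.ofBijective e he
  have hE : ∀ (g : G) x, E (g • x) = g • E x := fun g x => MulAction.ofQuotientStabilizer_smul G a g x
  refine ⟨fun ω => f 0 (E.symm ω), fun g hg => ?_⟩
  have := hf 0 0 g fun x => by
    have := hg (E x)
    simp only [← hE, E.symm_apply_apply] at this
    exact this
  intro ω
  obtain ⟨x, rfl⟩ := E.surjective ω
  rw [← hE, this.2]

end Cfsg.Agent.SolBase
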