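import Mathlib

/-!
A colouring of a finite abelian group with five colours that no automorphism preserves.
-/

set_option autoImplicit false
set_option linter.style.haveILetI false

namespace Cfsg.Agent.SolBase

section
variable {k : ℕ} (n : Fin k → ℕ)

/-- The sum of the standard generators over a set. -/
def delta (S : Finset (Fin k)) : (i : Fin k) → Multiplicative (ZMod (n i)) :=
  fun i => if i ∈ S then Multiplicative.ofAdd 1 else 1

variable {n}

lemma ofAdd_one_ne {m : ℕ} (hm : 1 < m) : (Multiplicative.ofAdd (1 : ZMod m)) ≠ 1 := by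
  haveI : Fact (1 < m) := ⟨hm⟩
  rw [ne_eq, ofAdd_eq_one]
  exact one_ne_zero

lemma delta_injective (hn : ∀ i, 1 < n i) : Function.Injective (delta n) := by
  intro S T h
  ext i
  have h' := congrFun h i
  simp only [delta] at h'
  by_cases h1 : i ∈ S <;> by_cases h2 : i ∈ T <;> simp only [h1, h2, if_true, if_false] at h' ⊢
  · exact absurd h' (ofAdd_one_ne (hn i))
  · exact absurd h'.symm (ofAdd_one_ne (hn i))

lemma delta_empty : delta n ∅ = 1 := by
  funext i; simp [delta]

lemma delta_insert {i : Fin k} {S : Finset (Fin k)} (h : i ∉ S) :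
    delta n (insert i S) = delta n {i} * delta n S := by
  funext j
  simp only [delta, Finset.mem_insert, Finset.mem_singleton, Pi.mul_apply]
  by_cases hj : j = i
  · subst hj; simp [h]
  · simp [hj]

lemma delta_singleton (i : Fin k) : delta n {i} = Pi.mulSingle i (Multiplicative.ofAdd 1) := by
  funext j
  by_cases hj : j = i
  · subst hj; simp [delta]
  · simp [delta, hj]

lemma map_delta (M : ((i : Fin k) → Multiplicative (ZMod (n i))) →* ((i : Fin k) → Multiplicative (ZMod (n i))))
    {π : Fin k → Fin k} (hπ : Function.Injective π) (hM : ∀ i, M (delta n {i}) = delta n {π i})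
    (S : Finset (Fin k)) : M (delta n S) = delta n (S.image π) := by
  induction S using Finset.induction_on with
  | empty => rw [Finset.image_empty, delta_empty, map_one]
  | insert i S hi ih =>
    rw [delta_insert hi, map_mul, ih, hM, Finset.image_insert,
      delta_insert (by simpa [hπ.eq_iff] using hi)]

lemma eq_id_of_delta (M : ((i : Fin k) → Multiplicative (ZMod (n i))) →* ((i : Fin k) → Multiplicative (ZMod (n i))))
    (hM : ∀ i, M (delta n {i}) = delta n {i}) : M = MonoidHom.id _ := by
  refine MonoidHom.functions_ext _ _ _ fun i x => ?_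
  obtain ⟨j, hj⟩ : ∃ j : ℤ, Multiplicative.toAdd x = (j : ZMod (n i)) :=
    ⟨_, (ZMod.intCast_zmod_cast (Multiplicative.toAdd x)).symm⟩
  have hx : Pi.mulSingle (M := fun i => Multiplicative (ZMod (n i))) i x = delta n {i} ^ j := by
    rw [delta_singleton, ← Pi.mulSingle_zpow]
    congr 1
    rw [← ofAdd_zsmul, zsmul_one, ← hj, ofAdd_toAdd]
  rw [hx, map_zpow, hM, map_zpow, MonoidHom.id_apply]

end

/-- The edges of a path with one extra triple. -/
def extraSets (k : ℕ) : Set (Finset (Fin k)) :=
  {S | (∃ i j : Fin k, (i : ℕ) + 1 = j ∧ S = {i, j}) ∨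
    ∃ a b c : Fin k, (a : ℕ) = 0 ∧ (b : ℕ) = 1 ∧ (c : ℕ) + 1 = k ∧ S = {a, b, c}}

lemma extraSets_rigid {k : ℕ} (hk : 4 ≤ k) {π : Fin k → Fin k} (hπ : Function.Injective π)
    (h : ∀ S ∈ extraSets k, S.image π ∈ extraSets k) : π = id := by
  classical
  let a : Fin k := ⟨0, by omega⟩
  let b : Fin k := ⟨1, by omega⟩
  let c : Fin k := ⟨k - 1, by omega⟩
  have hab : a ≠ b := by simp [a, b, Fin.ext_iff]
  have hac : a ≠ c := by simp [a, c, Fin.ext_iff]; omega
  have hbc : b ≠ c := by simp [b, c, Fin.ext_iff]; omega
  have hcard : ({a, b, c} : Finset (Fin k)).card = 3 := by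
    rw [Finset.card_insert_of_notMem (by simp [hab, hac]), Finset.card_pair hbc]
  -- images of edges are edges, the triple is fixed
  have hedge : ∀ i j : Fin k, (i : ℕ) + 1 = j →
      ((π i : ℕ) + 1 = π j ∨ (π j : ℕ) + 1 = π i) := by
    intro i j hij
    have hne : π i ≠ π j := fun e => by have := congrArg Fin.val (hπ e); omega
    have h2 : (({i, j} : Finset (Fin k)).image π).card = 2 := by
      rw [Finset.image_insert, Finset.image_singleton, Finset.card_pair hne]
    rcases h _ (Or.inl ⟨i, j, hij, rfl⟩) with ⟨i', j', hij', e⟩ | ⟨a', b', c', ha, hb, hc, e⟩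
    · rw [Finset.image_insert, Finset.image_singleton] at e
      have hi : π i = i' ∨ π i = j' := by
        simpa using (e ▸ Finset.mem_insert_self _ _ : π i ∈ ({i', j'} : Finset (Fin k)))
      have hj : π j = i' ∨ π j = j' := by
        simpa using (e ▸ Finset.mem_insert_of_mem (Finset.mem_singleton_self _) :
          π j ∈ ({i', j'} : Finset (Fin k)))
      rcases hi with hi | hi <;> rcases hj with hj | hj
      · exact absurd (hi.trans hj.symm) hne
      · left; rw [hi, hj]; exact hij'
      · right; rw [hi, hj]; exact hij'
      · exact absurd (hi.trans hj.symm) hne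
    · exfalso
      rw [e, show a' = a from Fin.ext ha, show b' = b from Fin.ext hb,
        show c' = c from Fin.ext (by simp [c]; omega), hcard] at h2
      omega
  have htri : ({a, b, c} : Finset (Fin k)).image π = {a, b, c} := by
    have h3 : (({a, b, c} : Finset (Fin k)).image π).card = 3 := by
      rw [Finset.card_image_of_injective _ hπ, hcard]
    rcases h _ (Or.inr ⟨a, b, c, rfl, rfl, by simp [c]; omega, rfl⟩) with
      ⟨i', j', hij', e⟩ | ⟨a', b', c', ha, hb, hc, e⟩
    · exfalso
      rw [e] at h3
      have := Finset.card_le_two (a := i') (b := j')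
      omega
    · rw [e, show a' = a from Fin.ext ha, show b' = b from Fin.ext hb,
        show c' = c from Fin.ext (by simp [c]; omega)]
  have hmem : ∀ x : Fin k, x = a ∨ x = b ∨ x = c → π x = a ∨ π x = b ∨ π x = c := by
    intro x hx
    have : π x ∈ ({a, b, c} : Finset (Fin k)) := by
      rw [← htri]; exact Finset.mem_image_of_mem _ (by simpa using hx)
    simpa using this
  -- the last point is fixed
  have hc0 : π c = c := by
    have e1 := hedge a b (by simp [a, b])
    have ha := hmem a (Or.inl rfl)
    have hb := hmem b (Or.inr (Or.inl rfl))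
    have hab' : π a ≠ π b := fun e => hab (hπ e)
    have ha' : π a ≠ c := by
      intro e
      rw [e] at e1
      rcases hb with hb | hb | hb <;> rw [hb] at e1 hab' <;> simp [a, b, c] at e1 hab' <;> omega
    have hb' : π b ≠ c := by
      intro e
      rw [e] at e1
      rcases ha with ha | ha | ha <;> rw [ha] at e1 hab' <;> simp [a, b, c] at e1 hab' <;> omega
    rcases hmem c (Or.inr (Or.inr rfl)) with hc | hc | hc
    · exfalso
      have h1 : π a = b := by
        rcases ha with ha | ha | ha
        · exact absurd (hπ (ha.trans hc.symm)) hac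
        · exact ha
        · exact absurd ha ha'
      have h2 : π b = b := by
        rcases hb with hb | hb | hb
        · exact absurd (hπ (hb.trans hc.symm)) hbc
        · exact hb
        · exact absurd hb hb'
      exact hab' (h1.trans h2.symm)
    · exfalso
      have h1 : π a = a := by
        rcases ha with ha | ha | ha
        · exact ha
        · exact absurd (hπ (ha.trans hc.symm)) hac
        · exact absurd ha ha'
      have h2 : π b = a := by
        rcases hb with hb | hb | hb
        · exact hb
        · exact absurd (hπ (hb.trans hc.symm)) hbc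
        · exact absurd hb hb'
      exact hab' (h1.trans h2.symm)
    · exact hc
  have key : ∀ d, ∀ x : Fin k, (x : ℕ) + d + 1 = k → π x = x := by
    intro d
    induction d using Nat.strong_induction_on with
    | _ d ih =>
      intro x hx
      rcases Nat.eq_zero_or_pos d with hd | hd
      · rw [show x = c from Fin.ext (by simp [c]; omega), hc0]
      let y : Fin k := ⟨x + 1, by omega⟩
      have hy : π y = y := ih (d - 1) (by omega) y (by simp [y]; omega)
      rcases hedge x y rfl with e | e
      · rw [hy] at e
        exact Fin.ext (by simp [y] at e; omega)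
      · rw [hy] at e
        have hlt := (π x).isLt
        let z : Fin k := π x
        have hz : π z = z := ih (d - 2) (by omega) z (by
          simp [y] at e; simp only [z]; omega)
        exact hπ hz
  funext x
  exact key (k - 1 - x) x (by omega)

/-- Every nontrivial finite abelian group has a colouring with five colours, the identity alone of
its colour, with nonconstant class sizes, preserved by no automorphism. -/
theorem exists_colouring (W : Type*) [CommGroup W] [Finite W] :
    ∃ φ : W → Fin 5, (∀ v, φ v = 0 ↔ v = 1) ∧
      (∀ M : W →* W, Function.Injective M → (∀ v, φ (M v) = φ v) → M = MonoidHom.id W) ∧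
      (∃ c c' : Fin 5, Nat.card {v // φ v = c} ≠ Nat.card {v // φ v = c'}) ∧
      (Nontrivial W → ∃ v, φ v = 1) := by
  classical
  obtain ⟨ι, _, m, hm, ⟨e0⟩⟩ := CommGroup.equiv_prod_multiplicative_zmod_of_finite W
  let k := Fintype.card ι
  let σ : Fin k ≃ ι := (Fintype.equivFin ι).symm
  let n : Fin k → ℕ := fun i => m (σ i)
  have hn : ∀ i, 1 < n i := fun i => hm _
  let e : W ≃* ((i : Fin k) → Multiplicative (ZMod (n i))) :=
    e0.trans (MulEquiv.mk (Equiv.piCongrLeft' (fun i => Multiplicative (ZMod (m i))) σ.symm)
      (fun x y => rfl))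
  haveI : ∀ i, NeZero (n i) := fun i => ⟨by have := hn i; omega⟩
  let g : Fin k → Fin 5 := fun i => if 4 ≤ k then 1 else if (i : ℕ) = 0 then 1 else if (i : ℕ) = 1 then 2 else 3
  let φ0 : ((i : Fin k) → Multiplicative (ZMod (n i))) → Fin 5 := fun v =>
    if v = 1 then 0 else if h : ∃ i, v = delta n {i} then g h.choose
      else if 4 ≤ k ∧ ∃ S ∈ extraSets k, v = delta n S then 2 else 4
  have hsing : ∀ i j : Fin k, delta n {i} = delta n {j} → i = j := fun i j h =>
    Finset.singleton_injective (delta_injective hn h)
  have hone : ∀ i, delta n {i} ≠ 1 := fun i h => by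
    rw [← delta_empty (n := n)] at h
    exact Finset.singleton_ne_empty i (delta_injective hn h)
  have hg : ∀ i, φ0 (delta n {i}) = g i := by
    intro i
    simp only [φ0]
    rw [if_neg (hone i), dif_pos ⟨i, rfl⟩]
    congr 1
    exact hsing _ _ (Exists.choose_spec (⟨i, rfl⟩ : ∃ j, delta n {i} = delta n {j})).symm
  have hg0 : ∀ i, g i ≠ 0 ∧ g i ≠ 4 := fun i => by
    simp only [g]; split_ifs <;> decide
  have hval : ∀ v, φ0 v = 0 → v = 1 := by
    intro v hv
    by_contra h
    simp only [φ0, if_neg h] at hv
    split_ifs at hv with h1 h2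
    · exact (hg0 _).1 hv
    · exact absurd hv (by decide)
    · exact absurd hv (by decide)
  have hextra : 4 ≤ k → ∀ S ∈ extraSets k, φ0 (delta n S) = 2 := by
    intro hk S hS
    have hcard : 2 ≤ S.card := by
      rcases hS with ⟨i, j, hij, rfl⟩ | ⟨a, b, c, ha, hb, -, rfl⟩
      · rw [Finset.card_pair (fun e => by rw [e] at hij; omega)]
      · calc 2 = ({b, a} : Finset (Fin k)).card := by rw [Finset.card_pair (fun e => by rw [e] at hb; omega)]
          _ ≤ _ := Finset.card_le_card (by intro x hx; simp at hx ⊢; tauto)
    simp only [φ0]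
    rw [if_neg, dif_neg, if_pos ⟨hk, S, hS, rfl⟩]
    · rintro ⟨i, hi⟩
      rw [delta_injective hn hi, Finset.card_singleton] at hcard; omega
    · intro h
      rw [← delta_empty (n := n)] at h
      rw [delta_injective hn h, Finset.card_empty] at hcard; omega
  refine ⟨fun v => φ0 (e v), fun v => ⟨fun h => ?_, fun h => ?_⟩, ?_, ?_, ?_⟩
  · have := hval _ h
    rwa [MulEquiv.map_eq_one_iff] at this
  · simp [h, φ0]
  · intro M hM hφ
    let M' : ((i : Fin k) → Multiplicative (ZMod (n i))) →* ((i : Fin k) → Multiplicative (ZMod (n i))) :=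
      (e.toMonoidHom.comp M).comp e.symm.toMonoidHom
    have hM' : ∀ u, φ0 (M' u) = φ0 u := fun u => by simpa [M'] using hφ (e.symm u)
    have hM'inj : Function.Injective M' := e.injective.comp (hM.comp e.symm.injective)
    have hper : ∀ i, ∃ j, M' (delta n {i}) = delta n {j} ∧ g j = g i := by
      intro i
      have h := (hM' (delta n {i})).trans (hg i)
      have h1 : M' (delta n {i}) ≠ 1 := fun e1 => hone i (hM'inj (e1.trans (map_one M').symm))
      by_cases h2 : ∃ j, M' (delta n {i}) = delta n {j}
      · obtain ⟨j, hj⟩ := h2
        exact ⟨j, hj, by rw [← hg, ← hj, h]⟩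
      exfalso
      simp only [φ0, if_neg h1, dif_neg h2] at h
      split_ifs at h with h3
      · simp only [g, if_pos h3.1] at h
        exact absurd h (by decide)
      · exact (hg0 i).2 h.symm
    choose π hπ hπg using hper
    have hπinj : Function.Injective π := fun i j h => hsing i j (hM'inj (by rw [hπ, hπ, h]))
    have hid : π = id := by
      by_cases hk : 4 ≤ k
      · refine extraSets_rigid hk hπinj fun S hS => ?_
        have h := (hM' (delta n S)).trans (hextra hk S hS)
        rw [map_delta M' hπinj hπ] at h
        simp only [φ0] at h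
        split_ifs at h with h1 h2 h3
        · exact absurd h (by decide)
        · simp only [g, if_pos hk] at h
          exact absurd h (by decide)
        · obtain ⟨-, T, hT, hST⟩ := h3
          rwa [delta_injective hn hST]
        · exact absurd h (by decide)
      · funext i
        have h := hπg i
        have h1 := (π i).isLt
        have h2 := i.isLt
        simp only [g, if_neg hk] at h
        show π i = i
        apply Fin.ext
        split_ifs at h <;> first | omega | exact absurd h (by decide)
    have := eq_id_of_delta M' fun i => by rw [hπ, hid]; rfl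
    refine MonoidHom.ext fun v => e.injective ?_
    have h2 := DFunLike.congr_fun this (e v)
    simpa [M'] using h2
  · have h0 : Nat.card {v : W // φ0 (e v) = 0} = 1 := by
      rw [Nat.card_eq_one_iff_unique]
      refine ⟨⟨fun a b => Subtype.ext ?_⟩, ⟨⟨1, by simp [φ0]⟩⟩⟩
      exact e.injective ((hval _ a.2).trans (hval _ b.2).symm)
    by_cases hk : k = 3
    · refine ⟨4, 0, ?_⟩
      rw [h0]
      intro h
      rw [Nat.card_eq_one_iff_unique] at h
      obtain ⟨⟨h⟩, -⟩ := h
      have h4 : ∀ i j : Fin k, i ≠ j → φ0 (e (e.symm (delta n {i, j}))) = 4 := by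
        intro i j hij
        have hc : ({i, j} : Finset (Fin k)).card = 2 := Finset.card_pair hij
        rw [MulEquiv.apply_symm_apply]
        simp only [φ0]
        rw [if_neg, dif_neg, if_neg (by omega)]
        · rintro ⟨l, hl⟩
          rw [delta_injective hn hl, Finset.card_singleton] at hc; omega
        · intro h'
          rw [← delta_empty (n := n)] at h'
          rw [delta_injective hn h', Finset.card_empty] at hc; omega
      let a : Fin k := ⟨0, by omega⟩
      let b : Fin k := ⟨1, by omega⟩
      let c : Fin k := ⟨2, by omega⟩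
      have := congrArg Subtype.val (h ⟨_, h4 a b (by simp [a, b])⟩ ⟨_, h4 a c (by simp [a, c])⟩)
      have h5 := delta_injective hn (e.symm.injective this)
      have : c ∈ ({a, b} : Finset (Fin k)) := h5 ▸ by simp
      simp [a, b, c] at this
    · refine ⟨3, 0, ?_⟩
      rw [h0]
      have : IsEmpty {v : W // φ0 (e v) = 3} := ⟨fun v => by
        have h : φ0 (e v.1) = 3 := v.2
        by_cases h1 : e v.1 = 1
        · rw [h1] at h; simp [φ0] at h
        by_cases h2 : ∃ i, e v.1 = delta n {i}
        · obtain ⟨i, hi⟩ := h2
          rw [hi, hg] at h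
          have := i.isLt
          simp only [g] at h
          split_ifs at h <;> first | exact absurd h (by decide) | omega
        · simp only [φ0, if_neg h1, dif_neg h2] at h
          split_ifs at h <;> exact absurd h (by decide)⟩
      rw [Nat.card_of_isEmpty]; omega
  · intro hW
    have hk : 0 < k := by
      rcases Nat.eq_zero_or_pos k with h | h
      · obtain ⟨a, b, hab⟩ := hW
        refine absurd (e.injective (funext fun i => ?_)) hab
        exact absurd i.isLt (by omega)
      · exact h
    refine ⟨e.symm (delta n {⟨0, hk⟩}), ?_⟩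
    simp only [MulEquiv.apply_symm_apply, hg, g]
    split_ifs <;> rfl

/-- A colouring with nonconstant class sizes is not a shift of itself. -/
theorem shift_eq_zero {W : Type*} (φ : W → Fin 5) {c c' : Fin 5}
    (hcc : Nat.card {v // φ v = c} ≠ Nat.card {v // φ v = c'}) {d : Fin 5} (M : W ≃ W)
    (h : ∀ v, φ (M v) = φ v + d) : d = 0 := by
  by_contra hd
  have hstep : ∀ x, Nat.card {v // φ v = x} = Nat.card {v // φ v = x + d} := fun x =>
    Nat.card_congr (M.subtypeEquiv fun v => by rw [h v]; exact (add_left_inj d).symm)
  have hmul : ∀ (j : ℕ) (x : Fin 5), Nat.card {v // φ v = x} = Nat.card {v // φ v = x + j • d} := by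
    intro j
    induction j with
    | zero => intro x; rw [zero_nsmul, add_zero]
    | succ j ih =>
      intro x
      rw [ih x, hstep, succ_nsmul, add_assoc]
  obtain ⟨j, hj⟩ : ∃ j : Fin 5, c + (j : ℕ) • d = c' := by
    clear hcc h hstep hmul
    revert hd c c' d
    decide
  refine hcc ((hmul j c).trans ?_)
  rw [hj]

end Cfsg.Agent.SolBase
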