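import Cfsg.Agent.Lib.SolBase.Layer
import Mathlib.RingTheory.Coprime.Lemmas

/-!
A maximal line stabiliser in the layer and generators of its centraliser.
-/

set_option autoImplicit false
set_option linter.style.haveILetI false
set_option linter.unusedSectionVars false

namespace Cfsg.Agent.SolBase

open PrimSol
open scoped commutatorElement

variable {F : Type*} [Field F] {V : Type*} [AddCommGroup V] [Module F V] [FiniteDimensional F V]
  [Finite V] [Nontrivial V] {G : Type*} [Group G] [Finite G] (ρ : G →* Module.End F V)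

/-- A vector whose line stabiliser in the layer is as large as possible. -/
structure IsTop (A E : Subgroup G) (w : V) : Prop extends IsLayer ρ A E where
  ne : w ≠ 0
  top : ∀ (v : V) (hv : v ≠ 0), Nat.card (toIsLayer.lineStab hv) ≤ Nat.card (toIsLayer.lineStab ne)

variable {ρ}

theorem exists_isTop {A E : Subgroup G} (hl : IsLayer ρ A E) : ∃ w : V, IsTop ρ A E w := by
  classical
  haveI := Fintype.ofFinite {v : V // v ≠ 0}
  haveI : Nonempty {v : V // v ≠ 0} := let ⟨v, hv⟩ := exists_ne (0 : V); ⟨⟨v, hv⟩⟩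
  obtain ⟨⟨w, hw⟩, -, hmax⟩ := Finset.exists_max_image (Finset.univ : Finset {v : V // v ≠ 0})
    (fun v => Nat.card (hl.lineStab v.2)) Finset.univ_nonempty
  exact ⟨w, hl, hw, fun v hv => hmax ⟨v, hv⟩ (Finset.mem_univ _)⟩

variable {A E : Subgroup G} {w : V} (ht : IsTop ρ A E w)
include ht

/-- The stabiliser of the chosen line. -/
abbrev IsTop.L : Subgroup G := ht.toIsLayer.lineStab ht.ne

theorem IsTop.mem_L {f : G} : f ∈ ht.L ↔ f ∈ E ∧ ∃ k ∈ alg ρ A, ρ f w = k w := Iff.rfl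

theorem IsTop.L_le : ht.L ≤ E := fun _ h => h.1

theorem IsTop.A_le : A ≤ ht.L := ht.toIsLayer.le_lineStab ht.ne

theorem IsTop.L_comm {l l' : G} (h : l ∈ ht.L) (h' : l' ∈ ht.L) : l * l' = l' * l :=
  ht.toIsLayer.lineStab_comm ht.ne h h'

/-- Membership in the centraliser of the line stabiliser. -/
def IsTop.InN (f : G) : Prop := f ∈ E ∧ ∀ l ∈ ht.L, f * l = l * f

/-- The centraliser of the line stabiliser. -/
def IsTop.N : Subgroup G where
  carrier := {f | ht.InN f}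
  one_mem' := ⟨E.one_mem, fun l _ => by rw [one_mul, mul_one]⟩
  mul_mem' := fun {f h} hf hh => ⟨E.mul_mem hf.1 hh.1,
    fun l hl => (Commute.mul_left (hf.2 l hl) (hh.2 l hl)).eq⟩
  inv_mem' := fun {f} hf => ⟨E.inv_mem hf.1, fun l hl => (Commute.inv_left (hf.2 l hl)).eq⟩

theorem IsTop.mem_N {f : G} : f ∈ ht.N ↔ f ∈ E ∧ ∀ l ∈ ht.L, f * l = l * f := Iff.rfl

theorem IsTop.L_le_N : ht.L ≤ ht.N := fun _ h => ⟨h.1, fun _ hl => ht.L_comm h hl⟩

theorem IsTop.A_le_N : A ≤ ht.N := ht.A_le.trans ht.L_le_N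

/-- An element of the centraliser whose power is a power of a scalar lies in the stabiliser. -/
theorem IsTop.mem_of_root {r : ℕ} (hr : r.Prime) {f : G} (hf : f ∈ ht.N) (hfr : f ^ r ∈ A)
    {k : Module.End F V} (hk : k ∈ alg ρ A) (he : ρ (f ^ r) = k ^ r) : f ∈ ht.L := by
  classical
  by_contra hfL
  haveI := Fact.mk hr
  have hl := ht.toIsLayer
  obtain ⟨h, hh, hne⟩ : ∃ h ∈ E, ⁅f, h⁆ ≠ 1 := by
    by_contra hcon
    push Not at hcon
    exact hfL (ht.A_le (hl.self f (hl.cent f hf.1)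
      fun h hh => commutatorElement_eq_one_iff_mul_comm.1 (hcon h hh)))
  set ζ := ρ ⁅f, h⁆ with hζ
  have hζK : ζ ∈ alg ρ A := hl.scalar (hl.der f hf.1 h hh)
  have hζr : ζ ^ r = 1 := by rw [hζ, ← map_pow, hl.comm_pow_eq_one hf.1 hh hfr, map_one]
  have hζ1 : ζ ≠ 1 := fun e => hne (hl.inj (e.trans (map_one ρ).symm))
  have hord : ∀ i, 0 < i → i < r → ζ ^ i ≠ 1 := by
    intro i hi hir e
    have : orderOf ζ = r := orderOf_eq_prime hζr hζ1
    have hd := Nat.le_of_dvd hi (orderOf_dvd_of_pow_eq_one e)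
    omega
  haveI : Finite (Module.End F V) := Finite.of_injective _ DFunLike.coe_injective
  have hr0 : (r : Module.End F V) ≠ 0 := by
    intro e
    have hF : (r : F) = 0 := FaithfulSMul.algebraMap_injective F (Module.End F V)
      (by rw [map_natCast, e, map_zero])
    haveI : CharP F r := by
      have := CharP.ringChar_of_prime_eq_zero hr hF
      exact this ▸ ringChar.charP F
    haveI : CharP (Module.End F V) r :=
      charP_of_injective_algebraMap (FaithfulSMul.algebraMap_injective F (Module.End F V)) r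
    have h0 : (ζ - 1) ^ r = 0 := by
      rw [sub_pow_char_of_commute (p := r) (h := Commute.one_right ζ), hζr, one_pow, sub_self]
    have : ∀ n, (ζ - 1) ^ n = 0 → ζ - 1 = 0 := by
      intro n
      induction n with
      | zero => intro h1; rw [pow_zero] at h1; exact absurd h1 one_ne_zero
      | succ n ih =>
        intro h1
        rw [pow_succ'] at h1
        exact (hl.scal.eq_zero_or (sub_mem hζK (one_mem _)) h1).elim id ih
    exact hζ1 (sub_eq_zero.1 (this r h0))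
  have hk0 : k ≠ 0 := by
    intro e
    rw [e, zero_pow hr.ne_zero] at he
    have := congrArg (fun x : Module.End F V => x (ρ (f ^ r)⁻¹ w)) he
    simp only [apply_inv_cancel, LinearMap.zero_apply] at this
    exact ht.ne this
  obtain ⟨k', hk', hkk⟩ := hl.scal.inv k hk hk0
  set t := k' * ρ f with ht'
  have hcf : ∀ x ∈ alg ρ A, Commute (ρ f) x := fun x hx => hl.commute_scalar hf.1 hx
  have htr : t ^ r = 1 := by
    rw [ht', (hcf k' hk').symm.mul_pow, ← map_pow, he, ← (show Commute k' k from hl.scal.comm k' hk' k hk).mul_pow,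
      hkk, one_pow]
  have htc : ∀ x ∈ alg ρ A, Commute t x := fun x hx =>
    (show Commute k' x from hl.scal.comm k' hk' x hx).mul_left (hcf x hx)
  let u : ℕ → V := fun j => ((∑ i ∈ Finset.range r, (ζ ^ j * t) ^ i) : Module.End F V) w
  have hsum : ∑ j ∈ Finset.range r, u j = (r : Module.End F V) w := by
    simp only [u, ← LinearMap.sum_apply]
    congr 1
    rw [Finset.sum_comm]
    have : ∀ i ∈ Finset.range r, ∑ j ∈ Finset.range r, (ζ ^ j * t) ^ i = if i = 0 then (r : Module.End F V) else 0 := by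
      intro i hi
      have e : ∀ j, (ζ ^ j * t) ^ i = (ζ ^ i) ^ j * t ^ i := fun j => by
        rw [((htc ζ hζK).symm.pow_left j).mul_pow, ← pow_mul, ← pow_mul, mul_comm j i]
      rw [Finset.sum_congr rfl fun j _ => e j, ← Finset.sum_mul]
      split_ifs with h0
      · subst h0; simp
      · have hS : (∑ j ∈ Finset.range r, (ζ ^ i) ^ j) = 0 := by
          have h1 : (ζ ^ i - 1) * ∑ j ∈ Finset.range r, (ζ ^ i) ^ j = 0 := by
            rw [mul_geom_sum, ← pow_mul, mul_comm, pow_mul, hζr, one_pow, sub_self]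
          exact (hl.scal.eq_zero_or (sub_mem (pow_mem hζK i) (one_mem _)) h1).resolve_left
            (sub_ne_zero.2 (hord i (Nat.pos_of_ne_zero h0) (Finset.mem_range.1 hi)))
        rw [hS, zero_mul]
    rw [Finset.sum_congr rfl this, Finset.sum_ite_eq' (Finset.range r) 0, if_pos (Finset.mem_range.2 hr.pos)]
  obtain ⟨j, -, hj⟩ : ∃ j ∈ Finset.range r, u j ≠ 0 := by
    refine Finset.exists_ne_zero_of_sum_ne_zero ?_
    rw [hsum]
    intro e
    have hmem : (r : Module.End F V) ∈ alg ρ A := natCast_mem _ _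
    exact hr0 (hl.scal.eq_zero hmem ht.ne e)
  have hfix : (ζ ^ j * t) (u j) = u j := by
    have har : (ζ ^ j * t) ^ r = 1 := by
      rw [((htc ζ hζK).symm.pow_left j).mul_pow, htr, ← pow_mul, mul_comm, pow_mul, hζr, one_pow, one_mul]
    have : (ζ ^ j * t - 1) * ∑ i ∈ Finset.range r, (ζ ^ j * t) ^ i = 0 := by
      rw [mul_geom_sum, har, sub_self]
    have := congrArg (fun x : Module.End F V => x w) this
    rwa [Module.End.mul_apply, LinearMap.zero_apply, LinearMap.sub_apply, Module.End.one_apply, sub_eq_zero] at this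
  have hsub : ∀ l ∈ ht.L, l ∈ hl.lineStab hj := by
    intro l hlm
    obtain ⟨hlE, x, hx, hx'⟩ := hlm
    refine ⟨hlE, x, hx, ?_⟩
    have c1 : Commute (ρ l) t := by
      have c0 : Commute (ρ l) k' := hl.commute_scalar hlE hk'
      refine c0.mul_right ?_
      show ρ l * ρ f = ρ f * ρ l
      rw [← map_mul, ← map_mul, hf.2 l ⟨hlE, x, hx, hx'⟩]
    have cs : Commute (ρ l) (∑ i ∈ Finset.range r, (ζ ^ j * t) ^ i) :=
      Commute.sum_right _ _ _ fun i _ =>
        ((Commute.pow_right (hl.commute_scalar hlE hζK) j).mul_right c1).pow_right i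
    have cx : Commute x (∑ i ∈ Finset.range r, (ζ ^ j * t) ^ i) :=
      Commute.sum_right _ _ _ fun i _ =>
        ((Commute.pow_right (hl.scal.comm x hx ζ hζK) j).mul_right (htc x hx).symm).pow_right i
    show ρ l ((∑ i ∈ Finset.range r, (ζ ^ j * t) ^ i : Module.End F V) w) = _
    rw [← Module.End.mul_apply, cs.eq, Module.End.mul_apply, hx', ← Module.End.mul_apply, ← cx.eq]
    rfl
  have hfu : f ∈ hl.lineStab hj := by
    refine ⟨hf.1, k * (ζ ^ j) ^ (r - 1), mul_mem hk (pow_mem (pow_mem hζK j) _), ?_⟩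
    have h1 := congrArg (fun v => (k * (ζ ^ j) ^ (r - 1) : Module.End F V) v) hfix
    refine Eq.trans ?_ h1
    show ρ f (u j) = ((k * (ζ ^ j) ^ (r - 1)) * (ζ ^ j * t)) (u j)
    have e1 : (ζ ^ j) ^ (r - 1) * ζ ^ j = 1 := by
      rw [← pow_succ, Nat.sub_add_cancel hr.pos, ← pow_mul, mul_comm, pow_mul, hζr, one_pow]
    rw [mul_assoc, ← mul_assoc ((ζ ^ j) ^ (r - 1)), e1, one_mul, ht', ← mul_assoc,
      hl.scal.comm k hk k' hk', hkk, one_mul]
  have heq : ht.L = hl.lineStab hj := Subgroup.eq_of_le_of_card_ge hsub (ht.top _ hj)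
  exact hfL (heq ▸ hfu)

/-- The line stabiliser is the centraliser of its centraliser. -/
theorem IsTop.mem_of_commute {f : G} (hf : f ∈ E) (hc : ∀ n ∈ ht.N, f * n = n * f) : f ∈ ht.L := by
  classical
  have hl := ht.toIsLayer
  haveI : Finite (Module.End F V) := Finite.of_injective _ DFunLike.coe_injective
  letI : CommRing (alg ρ A) :=
    { (inferInstance : Ring (alg ρ A)) with
      mul_comm := fun x y => Subtype.ext (hl.scal.comm x x.2 y y.2) }
  haveI : Nontrivial (alg ρ A) := ⟨0, 1, fun h => zero_ne_one (congrArg Subtype.val h)⟩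
  haveI : NoZeroDivisors (alg ρ A) := ⟨fun {x y} h =>
    (hl.scal.eq_zero_or x.2 (congrArg Subtype.val h)).imp Subtype.ext Subtype.ext⟩
  haveI : IsDomain (alg ρ A) := NoZeroDivisors.to_isDomain _
  have hbound : ∀ (H : Type _) [Group H] [Finite H], Nat.card (H →* alg ρ A) ≤ Nat.card H := by
    intro H _ _
    haveI := Fintype.ofFinite H
    haveI : Finite (H →* alg ρ A) := Finite.of_injective _ DFunLike.coe_injective
    haveI := Fintype.ofFinite (H →* alg ρ A)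
    rw [Nat.card_eq_fintype_card, Nat.card_eq_fintype_card]
    refine (linearIndependent_monoidHom H (alg ρ A)).fintype_card_le_finrank.trans ?_
    rw [Module.finrank_pi]
  let X : Subgroup G :=
    { carrier := {x | x ∈ E ∧ ∀ n ∈ ht.N, x * n = n * x}
      one_mem' := ⟨E.one_mem, fun n _ => by rw [one_mul, mul_one]⟩
      mul_mem' := fun {a b} ha hb => ⟨E.mul_mem ha.1 hb.1,
        fun n hn => (Commute.mul_left (ha.2 n hn) (hb.2 n hn)).eq⟩
      inv_mem' := fun {a} ha => ⟨E.inv_mem ha.1, fun n hn => (Commute.inv_left (ha.2 n hn)).eq⟩ }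
  have hLX : ht.L ≤ X := fun l hlm => ⟨hlm.1, fun n hn => (hn.2 l hlm).symm⟩
  have hAX : A ≤ X := ht.A_le.trans hLX
  haveI hNn : (ht.N.subgroupOf E).Normal := ⟨fun n hn g => by
    rw [Subgroup.mem_subgroupOf] at hn ⊢
    have e : ((g * n * g⁻¹ : E) : G) = ⁅(g : G), (n : G)⁆ * n := by
      push_cast; rw [commutatorElement_def]; group
    rw [e]
    exact ht.N.mul_mem (ht.A_le_N (hl.der _ g.2 _ n.2)) hn⟩
  haveI hAn : ∀ (Y : Subgroup G), Y ≤ E → (A.subgroupOf Y).Normal := fun Y hY => ⟨fun a ha g => by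
    rw [Subgroup.mem_subgroupOf] at ha ⊢
    push_cast
    rw [hl.cent _ (hY g.2) _ ha, mul_inv_cancel_right]
    exact ha⟩
  haveI := hAn X fun x hx => hx.1
  haveI := hAn ht.L ht.L_le
  have hXE : X ≤ E := fun x hx => hx.1
  let pX : X → (E ⧸ ht.N.subgroupOf E →* alg ρ A) := fun x => QuotientGroup.lift _
    { toFun := fun g => ⟨ρ ⁅(x : G), (g : G)⁆, hl.scalar (hl.der _ x.2.1 _ g.2)⟩
      map_one' := Subtype.ext (by simp)
      map_mul' := fun g h => Subtype.ext (by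
        show ρ ⁅(x : G), ((g * h : E) : G)⁆ = ρ ⁅(x : G), (g : G)⁆ * ρ ⁅(x : G), (h : G)⁆
        rw [← map_mul, Subgroup.coe_mul, hl.comm_mul_right h.2 g.2 x.2.1]) }
    (fun g hg => Subtype.ext (by
      show ρ ⁅(x : G), (g : G)⁆ = 1
      rw [commutatorElement_eq_one_iff_mul_comm.2 (x.2.2 g hg), map_one]))
  let pE : E → (ht.L ⧸ A.subgroupOf ht.L →* alg ρ A) := fun g => QuotientGroup.lift _
    { toFun := fun l => ⟨ρ ⁅(g : G), (l : G)⁆, hl.scalar (hl.der _ g.2 _ (ht.L_le l.2))⟩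
      map_one' := Subtype.ext (by simp)
      map_mul' := fun l h => Subtype.ext (by
        show ρ ⁅(g : G), ((l * h : ht.L) : G)⁆ = ρ ⁅(g : G), (l : G)⁆ * ρ ⁅(g : G), (h : G)⁆
        rw [← map_mul, Subgroup.coe_mul, hl.comm_mul_right (ht.L_le h.2) (ht.L_le l.2) g.2]) }
    (fun l hlA => Subtype.ext (by
      show ρ ⁅(g : G), (l : G)⁆ = 1
      rw [commutatorElement_eq_one_iff_mul_comm.2 (hl.cent g g.2 l hlA), map_one]))
  have hdiff : ∀ a b g : G, a ∈ E → b ∈ E → g ∈ E → ⁅a, g⁆ = ⁅b, g⁆ → (a⁻¹ * b) * g = g * (a⁻¹ * b) := by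
    intro a b g ha hb hg h
    rw [← commutatorElement_eq_one_iff_mul_comm, hl.comm_mul_left hb (E.inv_mem ha) hg, ← h,
      ← hl.comm_mul_left ha (E.inv_mem ha) hg, inv_mul_cancel, commutatorElement_one_left]
  have h1 : Nat.card (X ⧸ A.subgroupOf X) ≤ Nat.card (E ⧸ ht.N.subgroupOf E) := by
    refine le_trans ?_ (hbound _)
    haveI : Finite (E ⧸ ht.N.subgroupOf E →* alg ρ A) := Finite.of_injective _ DFunLike.coe_injective
    refine Nat.card_le_card_of_injective (fun q => pX (Quotient.out q)) fun q q' h => ?_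
    obtain ⟨x, rfl⟩ : ∃ x, q = x := ⟨q, rfl⟩
    rw [← Quotient.out_eq' q, ← Quotient.out_eq' q']
    refine QuotientGroup.eq.2 (Subgroup.mem_subgroupOf.2 ?_)
    set a := Quotient.out q
    set b := Quotient.out q'
    refine hl.self _ (fun c hc => ?_) (fun g hg => ?_)
    · exact hl.cent _ (E.mul_mem (E.inv_mem a.2.1) b.2.1) c hc
    · refine hdiff _ _ g a.2.1 b.2.1 hg (hl.inj ?_)
      have := congrArg Subtype.val (DFunLike.congr_fun h ((⟨g, hg⟩ : E) : E ⧸ ht.N.subgroupOf E))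
      exact this
  have h2 : Nat.card (E ⧸ ht.N.subgroupOf E) ≤ Nat.card (ht.L ⧸ A.subgroupOf ht.L) := by
    refine le_trans ?_ (hbound _)
    haveI : Finite (ht.L ⧸ A.subgroupOf ht.L →* alg ρ A) := Finite.of_injective _ DFunLike.coe_injective
    refine Nat.card_le_card_of_injective (fun q => pE (Quotient.out q)) fun q q' h => ?_
    rw [← Quotient.out_eq' q, ← Quotient.out_eq' q']
    refine QuotientGroup.eq.2 (Subgroup.mem_subgroupOf.2 ?_)
    set a := Quotient.out q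
    set b := Quotient.out q'
    refine ⟨E.mul_mem (E.inv_mem a.2) b.2, fun l hlm => ?_⟩
    refine hdiff _ _ l a.2 b.2 (ht.L_le hlm) (hl.inj ?_)
    have := congrArg Subtype.val (DFunLike.congr_fun h ((⟨l, hlm⟩ : ht.L) : ht.L ⧸ A.subgroupOf ht.L))
    exact this
  have hcard : Nat.card X ≤ Nat.card ht.L := by
    rw [Subgroup.card_eq_card_quotient_mul_card_subgroup (A.subgroupOf X),
      Subgroup.card_eq_card_quotient_mul_card_subgroup (A.subgroupOf ht.L),
      Nat.card_congr (Subgroup.subgroupOfEquivOfLe hAX).toEquiv,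
      Nat.card_congr (Subgroup.subgroupOfEquivOfLe ht.A_le).toEquiv]
    exact Nat.mul_le_mul_right _ (h1.trans h2)
  rw [Subgroup.eq_of_le_of_card_ge hLX hcard]
  exact ⟨hf, hc⟩

/-- The centraliser is generated by its elements of prime order modulo the scalars. -/
theorem IsTop.N_le_of_prime (X : Subgroup G)
    (h : ∀ (r : ℕ), r.Prime → ∀ f ∈ ht.N, f ^ r ∈ A → f ∈ X) : ht.N ≤ X := by
  suffices key : ∀ n, ∀ f ∈ ht.N, Squarefree n → f ^ n ∈ A → f ∈ X from fun f hf => by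
    obtain ⟨n, hn, hfn⟩ := ht.exp f hf.1
    exact key n f hf hn hfn
  intro n
  induction n using Nat.strong_induction_on with
  | _ n ih =>
  intro f hf hn hfn
  rcases eq_or_ne n 1 with rfl | hn1
  · rw [pow_one] at hfn
    exact h 2 Nat.prime_two f hf (A.pow_mem hfn 2)
  obtain ⟨r, hr, n', rfl⟩ := Nat.exists_prime_and_dvd hn1
  have hn0 : n' ≠ 0 := fun e => by simp [e] at hn
  obtain ⟨hcop, -, hn'⟩ := Nat.squarefree_mul_iff.1 hn
  obtain ⟨u, v, huv⟩ := Nat.isCoprime_iff_coprime.2 hcop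
  have e : f = (f ^ r) ^ u * (f ^ n') ^ v := by
    rw [← zpow_natCast, ← zpow_natCast f n', ← zpow_mul, ← zpow_mul, ← zpow_add,
      mul_comm (r : ℤ) u, mul_comm (n' : ℤ) v, huv, zpow_one]
  rw [e]
  refine X.mul_mem (X.zpow_mem ?_ u) (X.zpow_mem ?_ v)
  · refine ih n' (lt_mul_of_one_lt_left (Nat.pos_of_ne_zero hn0) hr.one_lt) _ (ht.N.pow_mem hf r) hn' ?_
    rwa [← pow_mul]
  · refine h r hr _ (ht.N.pow_mem hf n') ?_
    rwa [← pow_mul, mul_comm]

/-- Powers of a product with central commutator. -/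
theorem IsTop.mul_pow_eq {x g : G} (hx : x ∈ E) (hg : g ∈ E) (n : ℕ) :
    (x * g) ^ n = ⁅g, x⁆ ^ n.choose 2 * (x ^ n * g ^ n) := by
  have hl := ht.toIsLayer
  have hc : ∀ y ∈ E, Commute y ⁅g, x⁆ := fun y hy => hl.cent y hy _ (hl.der g hg x hx)
  have hmove : ∀ m : ℕ, g ^ m * x = ⁅g, x⁆ ^ m * (x * g ^ m) := fun m => by
    rw [← hl.comm_pow hg hx, commutatorElement_def]; group
  induction n with
  | zero => simp
  | succ n ih =>
    rw [pow_succ, ih, show (n + 1).choose 2 = n.choose 2 + n by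
      rw [Nat.choose_succ_succ, Nat.choose_one_right]; ring]
    calc ⁅g, x⁆ ^ n.choose 2 * (x ^ n * g ^ n) * (x * g)
        = ⁅g, x⁆ ^ n.choose 2 * (x ^ n * (g ^ n * x) * g) := by group
      _ = ⁅g, x⁆ ^ n.choose 2 * (x ^ n * (⁅g, x⁆ ^ n * (x * g ^ n)) * g) := by rw [hmove]
      _ = ⁅g, x⁆ ^ n.choose 2 * ((x ^ n * ⁅g, x⁆ ^ n) * (x * g ^ n) * g) := by group
      _ = ⁅g, x⁆ ^ n.choose 2 * ((⁅g, x⁆ ^ n * x ^ n) * (x * g ^ n) * g) := by
            rw [(((hc x hx).pow_left n).pow_right n).eq]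
      _ = ⁅g, x⁆ ^ (n.choose 2 + n) * (x ^ (n + 1) * g ^ (n + 1)) := by
            rw [pow_add, pow_succ x, pow_succ g]; group

/-- The generators of the centraliser modulo the line stabiliser. -/
theorem IsTop.exists_gens :
    ∃ m₁ ∈ ht.N, ∃ m₂ ∈ ht.N, ht.N ≤ ht.L ⊔ Subgroup.closure {m₁, m₂} ∧
      (ht.N ≤ ht.L ∨ (m₁ ^ 2 ∈ A ∧ m₂ ^ 2 ∈ A ∧ ρ ⁅m₁, m₂⁆ = -1 ∧ (∀ x ∈ alg ρ A, x * x ≠ -1) ∧
        (∀ x ∈ alg ρ A, x * x ≠ ρ (m₁ ^ 2)) ∧ ∀ x ∈ alg ρ A, x * x ≠ ρ (m₂ ^ 2))) := by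
  classical
  have hl := ht.toIsLayer
  obtain ⟨lam, hlam, hlam0, hgen⟩ := hl.scal.exists_gen
  have hexp : ∀ a ∈ A, ∃ i : ℕ, ρ a = lam ^ i := fun a ha => hgen _ (hl.scalar ha) fun e => by
    have := apply_inv_cancel ρ a w
    rw [e, LinearMap.zero_apply] at this
    exact ht.ne this.symm
  have cop : ∀ r s : ℕ, r.Prime → s.Prime → r ≠ s → ∀ f ∈ ht.N, f ^ r ∈ A → ∀ g ∈ ht.N, g ^ s ∈ A →
      f * g = g * f := by
    intro r s hr hs hrs f hf hfr g hg hgs
    rw [← commutatorElement_eq_one_iff_mul_comm]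
    have h1 := hl.comm_pow_eq_one hf.1 hg.1 hfr
    have h2 : ⁅f, g⁆ ^ s = 1 := by
      rw [← commutatorElement_inv g f, inv_pow, hl.comm_pow_eq_one hg.1 hf.1 hgs, inv_one]
    have h3 := Nat.dvd_gcd (orderOf_dvd_of_pow_eq_one h1) (orderOf_dvd_of_pow_eq_one h2)
    rw [(Nat.coprime_primes hr hs).2 hrs] at h3
    exact orderOf_eq_one_iff.1 (Nat.dvd_one.1 h3)
  have hcommN : ∀ f ∈ ht.N, (∀ r, r.Prime → ∀ g ∈ ht.N, g ^ r ∈ A → f * g = g * f) → f ∈ ht.L := by
    intro f hf h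
    refine ht.mem_of_commute hf.1 fun n hn => ?_
    have := ht.N_le_of_prime (Subgroup.centralizer {f}) (fun r hr g hg hgr =>
      Subgroup.mem_centralizer_iff.2 fun y hy => by rw [Set.mem_singleton_iff.1 hy]; exact h r hr g hg hgr) hn
    exact Subgroup.mem_centralizer_iff.1 this f rfl
  -- odd primes
  have hodd : ∀ r, r.Prime → r ≠ 2 → ∀ f ∈ ht.N, f ^ r ∈ A → f ∈ ht.L := by
    intro r hr hr2 f hf hfr
    refine hcommN f hf fun s hs g hg hgs => ?_
    rcases ne_or_eq r s with hrs | rfl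
    · exact cop r s hr hs hrs f hf hfr g hg hgs
    obtain ⟨α, hα⟩ := hexp _ hfr
    obtain ⟨β, hβ⟩ := hexp _ hgs
    by_cases hd : r ∣ α
    · obtain ⟨j, rfl⟩ := hd
      have : f ∈ ht.L := ht.mem_of_root hr hf hfr (pow_mem hlam j) (by rw [hα, ← pow_mul, mul_comm])
      exact (hg.2 f this).symm
    haveI := Fact.mk hr
    obtain ⟨i, hi⟩ : ∃ i : ℕ, r ∣ i * α + β := by
      refine ⟨(-(β : ZMod r) / (α : ZMod r)).val, ?_⟩
      rw [← ZMod.natCast_eq_zero_iff, Nat.cast_add, Nat.cast_mul, ZMod.natCast_zmod_val,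
        div_mul_cancel₀ _ (fun e => hd ((ZMod.natCast_eq_zero_iff α r).1 e)), neg_add_cancel]
    have hc1 : ⁅g, f ^ i⁆ ^ r = 1 := hl.comm_pow_eq_one hg.1 (E.pow_mem hf.1 i) hgs
    have hh : (f ^ i * g) ^ r = (f ^ r) ^ i * g ^ r := by
      rw [ht.mul_pow_eq (E.pow_mem hf.1 i) hg.1]
      have : r ∣ r.choose 2 := hr.dvd_choose_self (by norm_num) (lt_of_le_of_ne hr.two_le (Ne.symm hr2))
      obtain ⟨c, hc⟩ := this
      rw [hc, pow_mul, hc1, one_pow, one_mul, ← pow_mul, ← pow_mul, mul_comm r i]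
    have hmem : f ^ i * g ∈ ht.L := by
      obtain ⟨j, hj⟩ := hi
      refine ht.mem_of_root hr (ht.N.mul_mem (ht.N.pow_mem hf i) hg) ?_ (pow_mem hlam j) ?_
      · rw [hh]; exact A.mul_mem (A.pow_mem hfr i) hgs
      · rw [hh, map_mul, map_pow, hα, hβ, ← pow_mul, ← pow_add, mul_comm α i, hj, ← pow_mul, mul_comm r j]
    have h1 : Commute f (f ^ i * g) := hf.2 _ hmem
    have h2 : Commute f (f ^ i) := (Commute.refl f).pow_right i
    have := (h2.inv_right).mul_right h1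
    rwa [inv_mul_cancel_left] at this
  -- the prime two
  have hnsq : ∀ f ∈ ht.N, f ^ 2 ∈ A → f ∉ ht.L → ∃ j : ℕ, ρ (f ^ 2) = lam ^ (2 * j + 1) := by
    intro f hf hf2 hfL
    obtain ⟨α, hα⟩ := hexp _ hf2
    rcases Nat.even_or_odd' α with ⟨j, rfl | rfl⟩
    · exact absurd (ht.mem_of_root Nat.prime_two hf hf2 (pow_mem hlam j) (by rw [hα, ← pow_mul, mul_comm])) hfL
    · exact ⟨j, hα⟩
  have hsgn : ∀ f ∈ ht.N, f ^ 2 ∈ A → ∀ g ∈ ht.N, ρ ⁅f, g⁆ = 1 ∨ ρ ⁅f, g⁆ = -1 := by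
    intro f hf hf2 g hg
    have h1 : (ρ ⁅f, g⁆ - 1) * (ρ ⁅f, g⁆ + 1) = 0 := by
      rw [sub_mul, mul_add, mul_one, one_mul, ← pow_two, ← map_pow,
        hl.comm_pow_eq_one hf.1 hg.1 hf2, map_one, add_comm (1 : Module.End F V), sub_self]
    rcases hl.scal.eq_zero_or (sub_mem (hl.scalar (hl.der f hf.1 g hg.1)) (one_mem _)) h1 with h | h
    · exact Or.inl (sub_eq_zero.1 h)
    · exact Or.inr (eq_neg_of_add_eq_zero_left h)
  have hprod : ∀ f ∈ ht.N, f ^ 2 ∈ A → ∀ g ∈ ht.N, g ^ 2 ∈ A → f ∉ ht.L → g ∉ ht.L →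
      (∃ x ∈ alg ρ A, x * x = ρ ⁅g, f⁆) → f * g ∈ ht.L := by
    intro f hf hf2 g hg hg2 hfL hgL ⟨x, hx, hxx⟩
    obtain ⟨i, hi⟩ := hnsq f hf hf2 hfL
    obtain ⟨j, hj⟩ := hnsq g hg hg2 hgL
    have e := ht.mul_pow_eq hf.1 hg.1 2
    rw [Nat.choose_self, pow_one] at e
    refine ht.mem_of_root Nat.prime_two (ht.N.mul_mem hf hg) ?_ (mul_mem hx (pow_mem hlam (i + j + 1))) ?_
    · rw [e]; exact A.mul_mem (hl.der g hg.1 f hf.1) (A.mul_mem hf2 hg2)
    · rw [e, map_mul, map_mul, hi, hj, ← hxx, ← pow_add,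
        (show Commute x (lam ^ (i + j + 1)) from hl.scal.comm x hx _ (pow_mem hlam _)).mul_pow, pow_two x,
        ← pow_mul, show 2 * i + 1 + (2 * j + 1) = (i + j + 1) * 2 by ring]
  by_cases hall : ∀ f ∈ ht.N, f ^ 2 ∈ A → ∀ g ∈ ht.N, g ^ 2 ∈ A → f * g = g * f
  · have hNL : ht.N ≤ ht.L := ht.N_le_of_prime _ fun r hr f hf hfr => by
      rcases eq_or_ne r 2 with rfl | hr2
      · refine hcommN f hf fun s hs g hg hgs => ?_
        rcases eq_or_ne s 2 with rfl | hs2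
        · exact hall f hf hfr g hg hgs
        · exact hf.2 g (hodd s hs hs2 g hg hgs)
      · exact hodd r hr hr2 f hf hfr
    exact ⟨1, ht.N.one_mem, 1, ht.N.one_mem, hNL.trans le_sup_left, Or.inl hNL⟩
  push Not at hall
  obtain ⟨a, ha, ha2, b, hb, hb2, hab⟩ := hall
  have haL : a ∉ ht.L := fun h => hab (hb.2 a h).symm
  have hbL : b ∉ ht.L := fun h => hab (ha.2 b h)
  have hca : ρ ⁅a, b⁆ = -1 := (hsgn a ha ha2 b hb).resolve_left fun h =>
    hab (commutatorElement_eq_one_iff_mul_comm.1 (hl.inj (h.trans (map_one ρ).symm)))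
  have hcb : ρ ⁅b, a⁆ = -1 := (hsgn b hb hb2 a ha).resolve_left fun h =>
    hab (commutatorElement_eq_one_iff_mul_comm.1 (hl.inj (h.trans (map_one ρ).symm))).symm
  have hneg : ∀ x ∈ alg ρ A, x * x ≠ -1 := by
    intro x hx hxx
    have h := hprod a ha ha2 b hb hb2 haL hbL ⟨x, hx, hxx.trans hcb.symm⟩
    have h1 : Commute a (a * b) := ha.2 _ h
    refine hab ?_
    have := ((Commute.refl a).inv_right).mul_right h1
    rwa [inv_mul_cancel_left] at this
  have hodd_sq : ∀ f ∈ ht.N, f ^ 2 ∈ A → f ∉ ht.L → ∀ x ∈ alg ρ A, x * x ≠ ρ (f ^ 2) := by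
    intro f hf hf2 hfL x hx hxx
    exact hfL (ht.mem_of_root Nat.prime_two hf hf2 hx (by rw [← hxx, pow_two]))
  refine ⟨a, ha, b, hb, ?_, Or.inr ⟨ha2, hb2, hca, hneg, hodd_sq a ha ha2 haL, hodd_sq b hb hb2 hbL⟩⟩
  refine ht.N_le_of_prime _ fun r hr d hd hdr => ?_
  rcases ne_or_eq r 2 with hr2 | rfl
  · exact (le_sup_left : ht.L ≤ ht.L ⊔ Subgroup.closure {a, b}) (hodd r hr hr2 d hd hdr)
  by_cases hdL : d ∈ ht.L
  · exact (le_sup_left : ht.L ≤ ht.L ⊔ Subgroup.closure {a, b}) hdL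
  set J := ht.L ⊔ Subgroup.closure {a, b}
  have haJ : a ∈ J := (le_sup_right : Subgroup.closure {a, b} ≤ J) (Subgroup.subset_closure (by simp))
  have hbJ : b ∈ J := (le_sup_right : Subgroup.closure {a, b} ≤ J) (Subgroup.subset_closure (by simp))
  have hLJ : ht.L ≤ J := le_sup_left
  have hcase : ∀ f ∈ ht.N, f ^ 2 ∈ A → f ∉ ht.L → f ∈ J → ρ ⁅d, f⁆ = 1 → d ∈ J := by
    intro f hf hf2 hfL hfJ h1
    have := hprod f hf hf2 d hd hdr hfL hdL ⟨1, one_mem _, by rw [mul_one, h1]⟩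
    have h2 := J.mul_mem (J.inv_mem hfJ) (hLJ this)
    rwa [inv_mul_cancel_left] at h2
  rcases hsgn d hd hdr a ha with h1 | h1
  · exact hcase a ha ha2 haL haJ h1
  rcases hsgn d hd hdr b hb with h2 | h2
  · exact hcase b hb hb2 hbL hbJ h2
  -- the product of three anticommuting elements
  have hmem : a * b * d ∈ ht.L := by
    have e2 := ht.mul_pow_eq hb.1 hd.1 2
    rw [Nat.choose_self, pow_one] at e2
    have e1 := ht.mul_pow_eq ha.1 (E.mul_mem hb.1 hd.1) 2
    rw [Nat.choose_self, pow_one, ← mul_assoc a b d, e2] at e1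
    have hc : ρ ⁅b * d, a⁆ = 1 := by
      rw [hl.comm_mul_left hd.1 hb.1 ha.1, map_mul, hcb, h1, neg_mul_neg, one_mul]
    obtain ⟨i, hi⟩ := hnsq a ha ha2 haL
    obtain ⟨j, hj⟩ := hnsq b hb hb2 hbL
    obtain ⟨l, hl'⟩ := hnsq d hd hdr hdL
    obtain ⟨c, hc'⟩ := hgen (-1) (neg_mem (one_mem _)) (neg_ne_zero.2 one_ne_zero)
    obtain ⟨c2, rfl | rfl⟩ := Nat.even_or_odd' c
    · exact absurd (by rw [← pow_add, ← two_mul]; exact hc'.symm) (hneg _ (pow_mem hlam c2))
    refine ht.mem_of_root Nat.prime_two (ht.N.mul_mem (ht.N.mul_mem ha hb) hd) ?_ (pow_mem hlam (i + j + l + c2 + 2)) ?_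
    · rw [e1]
      exact A.mul_mem (hl.der _ (E.mul_mem hb.1 hd.1) a ha.1)
        (A.mul_mem ha2 (A.mul_mem (hl.der d hd.1 b hb.1) (A.mul_mem hb2 hdr)))
    · rw [e1, map_mul, map_mul, map_mul, map_mul, hc, h2, hc', hi, hj, hl', one_mul, ← pow_add, ← pow_add,
        ← pow_add, ← pow_mul]
      congr 1
      ring
  have h3 := J.mul_mem (J.inv_mem (J.mul_mem haJ hbJ)) (hLJ hmem)
  rwa [inv_mul_cancel_left] at h3

end Cfsg.Agent.SolBase
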