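import Cfsg.Agent.Lib.SolBase.Scalar

/-!
The class two layer over the scalars and the line stabilisers in it.
-/

set_option autoImplicit false
set_option linter.style.haveILetI false
set_option linter.unusedSectionVars false

namespace Cfsg.Agent.SolBase

open PrimSol
open scoped commutatorElement

section
variable {G : Type*} [Group G] [Finite G]

/-- A normal subgroup of class two over `A` whose centraliser with `A` lies in `A`. -/
theorem exists_layer (hsol : Group.IsSolvable G) {A : Subgroup G} [A.Normal] (hA : IsMulCommutative A)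
    (hmax : ∀ B : Subgroup G, B.Normal → IsMulCommutative B → A ≤ B → B = A) :
    ∃ E : Subgroup G, E.Normal ∧ A ≤ E ∧ (∀ f ∈ E, ∀ a ∈ A, f * a = a * f) ∧
      (∀ f ∈ E, ∀ h ∈ E, ⁅f, h⁆ ∈ A) ∧ (∀ f ∈ E, ∃ n : ℕ, Squarefree n ∧ f ^ n ∈ A) ∧
      ∀ g : G, (∀ a ∈ A, g * a = a * g) → (∀ f ∈ E, g * f = f * g) → g ∈ A := by
  classical
  haveI := Fintype.ofFinite (Subgroup G)
  let P : Subgroup G → Prop := fun E => E.Normal ∧ A ≤ E ∧ (∀ f ∈ E, ∀ a ∈ A, f * a = a * f) ∧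
    (∀ f ∈ E, ∀ h ∈ E, ⁅f, h⁆ ∈ A) ∧ (∀ f ∈ E, ∃ n : ℕ, Squarefree n ∧ f ^ n ∈ A)
  have hAc : ∀ a ∈ A, ∀ b ∈ A, a * b = b * a := fun a ha b hb =>
    congrArg Subtype.val (hA.is_comm.comm ⟨a, ha⟩ ⟨b, hb⟩)
  have hPA : P A := ⟨inferInstance, le_rfl, fun f hf a ha => hAc f hf a ha, fun f hf h hh => by
    rw [commutatorElement_eq_one_iff_mul_comm.2 (hAc f hf h hh)]; exact A.one_mem,
    fun f hf => ⟨1, squarefree_one, by rwa [pow_one]⟩⟩
  obtain ⟨E, hE, hEmax⟩ := Finset.exists_max_image (Finset.univ.filter P) (fun E => Nat.card E)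
    ⟨A, Finset.mem_filter.2 ⟨Finset.mem_univ _, hPA⟩⟩
  obtain ⟨hEn, hAE, hEC, hEd, hEx⟩ := (Finset.mem_filter.1 hE).2
  refine ⟨E, hEn, hAE, hEC, hEd, hEx, ?_⟩
  -- the common centraliser
  let Z : Subgroup G :=
    { carrier := {g | (∀ a ∈ A, g * a = a * g) ∧ ∀ f ∈ E, g * f = f * g}
      one_mem' := ⟨fun a _ => by rw [one_mul, mul_one], fun f _ => by rw [one_mul, mul_one]⟩
      mul_mem' := fun {g h} hg hh => ⟨fun a ha => (Commute.mul_left (hg.1 a ha) (hh.1 a ha)).eq,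
        fun f hf => (Commute.mul_left (hg.2 f hf) (hh.2 f hf)).eq⟩
      inv_mem' := fun {g} hg => ⟨fun a ha => (Commute.inv_left (hg.1 a ha)).eq,
        fun f hf => (Commute.inv_left (hg.2 f hf)).eq⟩ }
  haveI hZn : Z.Normal := ⟨fun g hg x => by
    refine ⟨fun a ha => ?_, fun f hf => ?_⟩
    · have := hg.1 _ (‹A.Normal›.conj_mem a ha x⁻¹)
      calc x * g * x⁻¹ * a = x * (g * (x⁻¹ * a * x⁻¹⁻¹)) * x⁻¹ := by group
        _ = x * (x⁻¹ * a * x⁻¹⁻¹ * g) * x⁻¹ := by rw [this]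
        _ = a * (x * g * x⁻¹) := by group
    · have := hg.2 _ (hEn.conj_mem f hf x⁻¹)
      calc x * g * x⁻¹ * f = x * (g * (x⁻¹ * f * x⁻¹⁻¹)) * x⁻¹ := by group
        _ = x * (x⁻¹ * f * x⁻¹⁻¹ * g) * x⁻¹ := by rw [this]
        _ = f * (x * g * x⁻¹) := by group⟩
  suffices hZA : Z ≤ A from fun g h1 h2 => hZA ⟨h1, h2⟩
  have hAZ : A ≤ Z := fun a ha => ⟨hAc a ha, fun f hf => (hEC f hf a ha).symm⟩
  by_contra hne
  let S : ℕ → Subgroup G := fun k => Nat.rec (motive := fun _ => Subgroup G) Z (fun _ H => ⁅H, H⁆) k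
  have hSn : ∀ k, (S k).Normal := fun k => by
    induction k with
    | zero => exact hZn
    | succ k ihk => haveI := ihk; exact Subgroup.commutator_normal (S k) (S k)
  have hSZ : ∀ k, S k ≤ Z := fun k => by
    induction k with
    | zero => exact le_rfl
    | succ k ihk =>
      haveI := hSn k
      exact (Subgroup.commutator_le_right (S k) (S k)).trans ihk
  have hSd : ∀ k, S k ≤ derivedSeries G k := fun k => by
    induction k with
    | zero => exact le_top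
    | succ k ihk => exact Subgroup.commutator_mono ihk ihk
  obtain ⟨l, hl⟩ := hsol.solvable
  have hex : ∃ k, S k ≤ A := ⟨l, (hSd l).trans (hl.le.trans bot_le)⟩
  have hk0 : Nat.find hex ≠ 0 := fun h => hne (by
    have := Nat.find_spec hex
    rwa [h] at this)
  set D := A ⊔ S (Nat.find hex - 1) with hD
  haveI := hSn (Nat.find hex - 1)
  haveI hDn : D.Normal := Subgroup.sup_normal A _
  have hDZ : D ≤ Z := sup_le hAZ (hSZ _)
  have hDA : ¬ D ≤ A := fun h => Nat.find_min hex (show Nat.find hex - 1 < Nat.find hex by omega)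
    ((le_sup_right (a := A)).trans h)
  have hDd : ∀ f ∈ D, ∀ h ∈ D, ⁅f, h⁆ ∈ A := by
    have hSS : ∀ f ∈ S (Nat.find hex - 1), ∀ h ∈ S (Nat.find hex - 1), ⁅f, h⁆ ∈ A := fun f hf h hh => by
      have := Nat.find_spec hex
      rw [show Nat.find hex = Nat.find hex - 1 + 1 by omega] at this
      exact this (Subgroup.commutator_mem_commutator hf hh)
    intro f hf h hh
    have hf' : f ∈ ((A ⊔ S (Nat.find hex - 1) : Subgroup G) : Set G) := hf
    have hh' : h ∈ ((A ⊔ S (Nat.find hex - 1) : Subgroup G) : Set G) := hh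
    rw [Subgroup.normal_mul] at hf' hh'
    obtain ⟨a, ha, d, hd, rfl⟩ := hf'
    obtain ⟨a', ha', d', hd', rfl⟩ := hh'
    have hZc : ∀ z ∈ Z, ∀ b ∈ A, b * z = z * b := fun z hz b hb => (hz.1 b hb).symm
    have e : ⁅a * d, a' * d'⁆ = ⁅d, d'⁆ := by
      have c1 : a * (d * (a' * d') * d⁻¹) = d * (a' * d') * d⁻¹ * a :=
        hZc _ (Z.mul_mem (Z.mul_mem (hSZ _ hd) (Z.mul_mem (hAZ ha') (hSZ _ hd'))) (Z.inv_mem (hSZ _ hd))) a ha
      have c2 : a' * d = d * a' := hZc _ (hSZ _ hd) a' ha'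
      have c3 : a' * (d' * d⁻¹ * d'⁻¹) = d' * d⁻¹ * d'⁻¹ * a' :=
        hZc _ (Z.mul_mem (Z.mul_mem (hSZ _ hd') (Z.inv_mem (hSZ _ hd))) (Z.inv_mem (hSZ _ hd'))) a' ha'
      calc ⁅a * d, a' * d'⁆ = a * (d * (a' * d') * d⁻¹) * a⁻¹ * (a' * d')⁻¹ := by
            rw [commutatorElement_def]; group
        _ = d * (a' * d') * d⁻¹ * (a' * d')⁻¹ := by rw [c1]; group
        _ = d * (a' * (d' * d⁻¹ * d'⁻¹)) * a'⁻¹ := by group
        _ = ⁅d, d'⁆ := by rw [c3, commutatorElement_def]; group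
    rw [e]
    exact hSS d hd d' hd'
  -- a prime exponent
  haveI : (A.subgroupOf D).Normal := inferInstance
  have hcard : Nat.card (D ⧸ A.subgroupOf D) ≠ 1 := fun h =>
    hDA (Subgroup.subgroupOf_eq_top.1 (Subgroup.index_eq_one.1 h))
  obtain ⟨r, hr, hrd⟩ := Nat.exists_prime_and_dvd hcard
  haveI := Fact.mk hr
  obtain ⟨x, hx⟩ := exists_prime_orderOf_dvd_card' r hrd
  obtain ⟨d, rfl⟩ := QuotientGroup.mk_surjective x
  have hq : ∀ y : D, (y : G) ∈ A ↔ (y : D ⧸ A.subgroupOf D) = 1 := fun y =>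
    (Subgroup.mem_subgroupOf (K := D) (H := A)).symm.trans (QuotientGroup.eq_one_iff y).symm
  let B : Subgroup G :=
    { carrier := {b | ∃ hb : b ∈ D, ((⟨b, hb⟩ : D) : D ⧸ A.subgroupOf D) ^ r = 1}
      one_mem' := ⟨D.one_mem, by
        rw [show (⟨1, D.one_mem⟩ : D) = 1 from rfl, QuotientGroup.mk_one, one_pow]⟩
      mul_mem' := fun {a b} ⟨ha, ha'⟩ ⟨hb, hb'⟩ => ⟨D.mul_mem ha hb, by
        have hc : Commute ((⟨a, ha⟩ : D) : D ⧸ A.subgroupOf D) ((⟨b, hb⟩ : D) : D ⧸ A.subgroupOf D) := by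
          refine (QuotientGroup.eq).2 ?_
          show ((((⟨a, ha⟩ : D) * ⟨b, hb⟩)⁻¹ * (⟨b, hb⟩ * ⟨a, ha⟩) : D) : G) ∈ A
          have : (a * b)⁻¹ * (b * a) = ⁅b⁻¹, a⁻¹⁆ := by rw [commutatorElement_def]; group
          show (a * b)⁻¹ * (b * a) ∈ A
          rw [this]
          exact hDd _ (D.inv_mem hb) _ (D.inv_mem ha)
        rw [show (⟨a * b, D.mul_mem ha hb⟩ : D) = ⟨a, ha⟩ * ⟨b, hb⟩ from rfl, QuotientGroup.mk_mul,
          hc.mul_pow, ha', hb', one_mul]⟩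
      inv_mem' := fun {a} ⟨ha, ha'⟩ => ⟨D.inv_mem ha, by
        rw [show (⟨a⁻¹, D.inv_mem ha⟩ : D) = ⟨a, ha⟩⁻¹ from rfl, QuotientGroup.mk_inv, inv_pow, ha',
          inv_one]⟩ }
  have hBn : B.Normal := ⟨fun b ⟨hb, hb'⟩ g => ⟨hDn.conj_mem b hb g, by
    rw [← QuotientGroup.mk_pow, ← hq] at hb' ⊢
    show (g * b * g⁻¹) ^ r ∈ A
    rw [conj_pow]
    exact ‹A.Normal›.conj_mem _ hb' g⟩⟩
  have hBD : B ≤ D := fun b ⟨hb, _⟩ => hb
  have hBx : ∀ b ∈ B, b ^ r ∈ A := fun b ⟨hb, hb'⟩ => by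
    rw [← QuotientGroup.mk_pow, ← hq] at hb'; exact hb'
  have hdB : (d : G) ∈ B := ⟨d.2, by rw [Subtype.coe_eta, ← hx]; exact pow_orderOf_eq_one _⟩
  have hdA : (d : G) ∉ A := fun h => hr.ne_one (by rw [← hx, (hq d).1 h, orderOf_one])
  have hP : P (E ⊔ B) := by
    haveI := hEn
    haveI := hBn
    have hmem : ∀ y ∈ E ⊔ B, ∃ f ∈ E, ∃ b ∈ B, y = f * b := fun y hy => by
      have : y ∈ ((E ⊔ B : Subgroup G) : Set G) := hy
      rw [Subgroup.normal_mul] at this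
      obtain ⟨f, hf, b, hb, rfl⟩ := this
      exact ⟨f, hf, b, hb, rfl⟩
    refine ⟨Subgroup.sup_normal E B, hAE.trans le_sup_left, fun y hy a ha => ?_, fun y hy z hz => ?_, fun y hy => ?_⟩
    · obtain ⟨f, hf, b, hb, rfl⟩ := hmem y hy
      exact (Commute.mul_left (hEC f hf a ha) ((hDZ (hBD hb)).1 a ha)).eq
    · obtain ⟨f, hf, b, hb, rfl⟩ := hmem y hy
      obtain ⟨h, hh, c, hc, rfl⟩ := hmem z hz
      have hbz := hDZ (hBD hb)
      have hcz := hDZ (hBD hc)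
      have c1 : b * h = h * b := hbz.2 h hh
      have c2 : c * f = f * c := hcz.2 f hf
      have c3 : ∀ y ∈ A, ∀ f ∈ E, f * y = y * f := fun y hy f hf => hEC f hf y hy
      have e : ⁅f * b, h * c⁆ = ⁅f, h⁆ * ⁅b, c⁆ := by
        have d1 : b⁻¹ * h⁻¹ = h⁻¹ * b⁻¹ := by rw [← mul_inv_rev, ← mul_inv_rev, c1]
        have d2 : c⁻¹ * f⁻¹ = f⁻¹ * c⁻¹ := by rw [← mul_inv_rev, ← mul_inv_rev, c2]
        have d3 : ∀ u v : G, Commute u v → u * v⁻¹ = v⁻¹ * u := fun u v huv => huv.inv_right.eq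
        have p1 : Commute b f := hbz.2 f hf
        have p2 : Commute c h := hcz.2 h hh
        have p3 : Commute b h := c1
        have p4 : Commute c f := c2
        have q : Commute (b * c * b⁻¹) (f⁻¹ * h⁻¹) :=
          (((p1.inv_right.mul_right p3.inv_right).mul_left (p4.inv_right.mul_right p2.inv_right)).mul_left
            ((p1.inv_left.inv_right).mul_right (p3.inv_left.inv_right)))
        calc ⁅f * b, h * c⁆ = f * (b * h) * c * b⁻¹ * f⁻¹ * (c⁻¹ * h⁻¹) := by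
              rw [commutatorElement_def]; group
          _ = f * h * (b * c * b⁻¹) * f⁻¹ * (h⁻¹ * c⁻¹) := by rw [c1, (p2.inv_left.inv_right).eq]; group
          _ = f * h * ((b * c * b⁻¹) * (f⁻¹ * h⁻¹)) * c⁻¹ := by group
          _ = f * h * ((f⁻¹ * h⁻¹) * (b * c * b⁻¹)) * c⁻¹ := by rw [q.eq]
          _ = ⁅f, h⁆ * ⁅b, c⁆ := by rw [commutatorElement_def, commutatorElement_def]; group
      rw [e]
      exact A.mul_mem (hEd f hf h hh) (hDd b (hBD hb) c (hBD hc))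
    · obtain ⟨f, hf, b, hb, rfl⟩ := hmem y hy
      obtain ⟨n, hn, hfn⟩ := hEx f hf
      have hc : Commute f b := ((hDZ (hBD hb)).2 f hf).symm
      obtain ⟨m, hm, hnm, hrm⟩ : ∃ m, Squarefree m ∧ n ∣ m ∧ r ∣ m := by
        by_cases h : r ∣ n
        · exact ⟨n, hn, dvd_rfl, h⟩
        · exact ⟨n * r, (Nat.squarefree_mul ((hr.coprime_iff_not_dvd.2 h).symm)).2 ⟨hn, hr.squarefree⟩,
            dvd_mul_right _ _, dvd_mul_left _ _⟩
      refine ⟨m, hm, ?_⟩
      rw [hc.mul_pow]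
      obtain ⟨u, rfl⟩ := hnm
      obtain ⟨v, hv⟩ := hrm
      refine A.mul_mem (by rw [pow_mul]; exact A.pow_mem hfn u) ?_
      rw [hv, pow_mul]
      exact A.pow_mem (hBx b hb) v
  have hBE : B ≤ E := by
    have := hEmax _ (Finset.mem_filter.2 ⟨Finset.mem_univ _, hP⟩)
    rw [Subgroup.eq_of_le_of_card_ge (le_sup_left : E ≤ E ⊔ B) this]
    exact le_sup_right
  -- the centre of the layer
  let Y : Subgroup G := E ⊓ Z
  haveI := hEn
  haveI hYn : Y.Normal := Subgroup.normal_inf_normal E Z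
  have hYc : IsMulCommutative Y := ⟨⟨fun a b => Subtype.ext ((b.2.2.2 a a.2.1).symm)⟩⟩
  exact hdA (hmax Y hYn hYc (le_inf hAE hAZ) ▸
    (⟨hBE hdB, hDZ (hBD hdB)⟩ : (d : G) ∈ Y))

end

variable {F : Type*} [Field F] {V : Type*} [AddCommGroup V] [Module F V] [FiniteDimensional F V]
  [Finite V] [Nontrivial V] {G : Type*} [Group G] [Finite G] (ρ : G →* Module.End F V)

/-- The scalars, the layer and their basic properties. -/
structure IsLayer (A E : Subgroup G) : Prop where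
  scal : IsScalars ρ A
  inj : Function.Injective ρ
  mem_of_scalar : ∀ g : G, ρ g ∈ alg ρ A → g ∈ A
  comm : ∀ a ∈ A, ∀ b ∈ A, a * b = b * a
  normal : E.Normal
  le : A ≤ E
  cent : ∀ f ∈ E, ∀ a ∈ A, f * a = a * f
  der : ∀ f ∈ E, ∀ h ∈ E, ⁅f, h⁆ ∈ A
  exp : ∀ f ∈ E, ∃ n : ℕ, Squarefree n ∧ f ^ n ∈ A
  self : ∀ g : G, (∀ a ∈ A, g * a = a * g) → (∀ f ∈ E, g * f = f * g) → g ∈ A

variable {ρ} {A E : Subgroup G} (hl : IsLayer ρ A E)

include hl

theorem IsLayer.scalar {a : G} (ha : a ∈ A) : ρ a ∈ alg ρ A :=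
  Algebra.subset_adjoin ⟨a, ha, rfl⟩

theorem IsLayer.commute_scalar {f : G} (hf : f ∈ E) {k : Module.End F V} (hk : k ∈ alg ρ A) :
    ρ f * k = k * ρ f :=
  commute_alg (hl.cent f hf) hk

theorem IsLayer.eq_one {a : G} (ha : a ∈ A) {v : V} (hv : v ≠ 0) (h : ρ a v = v) : a = 1 :=
  hl.inj ((hl.scal.eq_of_apply (hl.scalar ha) (one_mem _) hv (by rw [h, Module.End.one_apply])).trans
    (map_one ρ).symm)

theorem IsLayer.comm_mul_left {f h k : G} (hh : h ∈ E) (hf : f ∈ E) (hk : k ∈ E) :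
    ⁅f * h, k⁆ = ⁅f, k⁆ * ⁅h, k⁆ := by
  have e : ⁅f * h, k⁆ = f * ⁅h, k⁆ * f⁻¹ * ⁅f, k⁆ := by
    rw [commutatorElement_def, commutatorElement_def, commutatorElement_def]; group
  rw [e, hl.cent f hf _ (hl.der h hh k hk), mul_inv_cancel_right,
    hl.comm _ (hl.der h hh k hk) _ (hl.der f hf k hk)]

theorem IsLayer.comm_mul_right {f h k : G} (hh : h ∈ E) (hf : f ∈ E) (hk : k ∈ E) :
    ⁅k, f * h⁆ = ⁅k, f⁆ * ⁅k, h⁆ := by
  rw [← commutatorElement_inv, hl.comm_mul_left hh hf hk, mul_inv_rev, commutatorElement_inv,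
    commutatorElement_inv, hl.comm _ (hl.der k hk h hh) _ (hl.der k hk f hf)]

theorem IsLayer.comm_pow {f k : G} (hf : f ∈ E) (hk : k ∈ E) (n : ℕ) : ⁅f ^ n, k⁆ = ⁅f, k⁆ ^ n := by
  induction n with
  | zero => rw [pow_zero, pow_zero, commutatorElement_one_left]
  | succ n ih => rw [pow_succ, hl.comm_mul_left hf (E.pow_mem hf n) hk, ih, pow_succ]

theorem IsLayer.comm_pow_eq_one {f k : G} (hf : f ∈ E) (hk : k ∈ E) {n : ℕ} (hn : f ^ n ∈ A) :
    ⁅f, k⁆ ^ n = 1 := by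
  rw [← hl.comm_pow hf hk, commutatorElement_eq_one_iff_mul_comm]
  exact (hl.cent k hk _ hn).symm

omit hl in
/-- The stabiliser of a line in the layer. -/
def lineSet (ρ : G →* Module.End F V) (A E : Subgroup G) (w : V) : Set G :=
  {f | f ∈ E ∧ ∃ k ∈ alg ρ A, ρ f w = k w}

/-- The stabiliser of a line, as a subgroup. -/
def IsLayer.lineStab {w : V} (hw : w ≠ 0) : Subgroup G where
  carrier := lineSet ρ A E w
  one_mem' := ⟨E.one_mem, 1, one_mem _, by rw [map_one]⟩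
  mul_mem' := fun {f h} ⟨hf, k, hk, hk'⟩ ⟨hh, l, hl', hl''⟩ => ⟨E.mul_mem hf hh, l * k, mul_mem hl' hk, by
    rw [map_mul, Module.End.mul_apply, hl'', ← Module.End.mul_apply, hl.commute_scalar hf hl',
      Module.End.mul_apply, hk', Module.End.mul_apply]⟩
  inv_mem' := fun {f} ⟨hf, k, hk, hk'⟩ => by
    have hk0 : k ≠ 0 := fun h => hw (by
      rw [h, LinearMap.zero_apply] at hk'
      exact apply_injective ρ f (hk'.trans (map_zero _).symm))
    obtain ⟨k', hk1, hk2⟩ := hl.scal.inv k hk hk0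
    refine ⟨E.inv_mem hf, k', hk1, apply_injective ρ f ?_⟩
    rw [apply_inv_cancel, ← Module.End.mul_apply, hl.commute_scalar hf hk1, Module.End.mul_apply, hk',
      ← Module.End.mul_apply, hk2, Module.End.one_apply]

theorem IsLayer.mem_lineStab {w : V} (hw : w ≠ 0) {f : G} :
    f ∈ hl.lineStab hw ↔ f ∈ E ∧ ∃ k ∈ alg ρ A, ρ f w = k w := Iff.rfl

theorem IsLayer.lineStab_comm {w : V} (hw : w ≠ 0) {f h : G} (hf : f ∈ hl.lineStab hw)
    (hh : h ∈ hl.lineStab hw) : f * h = h * f := by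
  obtain ⟨hfE, k, hk, hk'⟩ := (hl.mem_lineStab hw).1 hf
  obtain ⟨hhE, l, hlm, hl'⟩ := (hl.mem_lineStab hw).1 hh
  have e : ρ (f * h) w = ρ (h * f) w := by
    rw [map_mul, map_mul, Module.End.mul_apply, Module.End.mul_apply, hl', hk',
      ← Module.End.mul_apply, hl.commute_scalar hfE hlm, Module.End.mul_apply, hk',
      ← Module.End.mul_apply (ρ h), hl.commute_scalar hhE hk, Module.End.mul_apply, hl',
      ← Module.End.mul_apply, hl.scal.comm l hlm k hk, Module.End.mul_apply]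
  rw [← commutatorElement_eq_one_iff_mul_comm]
  refine hl.eq_one (hl.der f hfE h hhE) (v := ρ (h * f) w) ?_ ?_
  · exact fun h0 => hw (apply_injective ρ (h * f) (h0.trans (map_zero _).symm))
  · rw [← Module.End.mul_apply, ← map_mul, show ⁅f, h⁆ * (h * f) = f * h by
      rw [commutatorElement_def]; group, e]

theorem IsLayer.le_lineStab {w : V} (hw : w ≠ 0) : A ≤ hl.lineStab hw := fun a ha =>
  ⟨hl.le ha, ρ a, hl.scalar ha, rfl⟩

end Cfsg.Agent.SolBase
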