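import Cfsg.Agent.Lib.SolBase.Scalar
import Cfsg.Agent.Lib.FiniteGroup.PermSmall

/-!
Five inequivalent triples with trivial common stabiliser from one of them.
-/

set_option autoImplicit false
set_option linter.style.haveILetI false
set_option linter.unusedSectionVars false

namespace Cfsg.Agent.SolBase

open PrimSol
open scoped commutatorElement

section Linear3
variable (F : Type*) [Field F]

/-- A transvection of rank three as a unit. -/
def transv (i j : Fin 3) (hij : i ≠ j) (a : F) : (Matrix (Fin 3) (Fin 3) F)ˣ where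
  val := 1 + Matrix.single i j a
  inv := 1 - Matrix.single i j a
  val_inv := by
    rw [add_mul, mul_sub, mul_sub, one_mul, one_mul, mul_one,
      Matrix.single_mul_single_of_ne a i j i (Ne.symm hij) a]
    abel
  inv_val := by
    rw [sub_mul, mul_add, mul_add, one_mul, one_mul, mul_one,
      Matrix.single_mul_single_of_ne a i j i (Ne.symm hij) a]
    abel

variable {F}

lemma transv_commutator {i j k : Fin 3} (hij : i ≠ j) (hjk : j ≠ k) (hik : i ≠ k) (a b : F) :
    ⁅transv F i j hij a, transv F j k hjk b⁆ = transv F i k hik (a * b) := by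
  apply Units.ext
  simp only [commutatorElement_def, transv, Units.val_mul, Units.inv_mk]
  simp [add_mul, mul_add, sub_mul, mul_sub, hij, hjk, hik, hij.symm, hjk.symm, hik.symm]
  try abel

/-- The general linear group of degree three is not soluble. -/
theorem not_isSolvable_three : ¬ Group.IsSolvable (Matrix (Fin 3) (Fin 3) F)ˣ := by
  intro h
  obtain ⟨n, hn⟩ := h.solvable
  have key : ∀ m, ∀ (i j : Fin 3) (hij : i ≠ j) (a : F),
      transv F i j hij a ∈ derivedSeries (Matrix (Fin 3) (Fin 3) F)ˣ m := by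
    intro m
    induction m with
    | zero => intros; exact Subgroup.mem_top _
    | succ m ih =>
      intro i j hij a
      obtain ⟨k, hki, hkj⟩ : ∃ k, k ≠ i ∧ k ≠ j := by
        revert i j
        decide
      rw [← mul_one a, ← transv_commutator (Ne.symm hki) hkj hij a 1, derivedSeries_succ]
      exact Subgroup.commutator_mem_commutator (ih _ _ _ _) (ih _ _ _ _)
  have h01 : transv F 0 1 (by decide) 1 = 1 := by
    have := key n 0 1 (by decide) 1
    rwa [hn, Subgroup.mem_bot] at this
  have := congrArg (fun M : (Matrix (Fin 3) (Fin 3) F)ˣ => (M : Matrix (Fin 3) (Fin 3) F) 0 1) h01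
  simp [transv] at this

end Linear3

variable {F : Type*} [Field F] {V : Type*} [AddCommGroup V] [Module F V] [FiniteDimensional F V]
  [Finite V] [Nontrivial V] {G : Type*} [Group G] [Finite G] (ρ : G →* Module.End F V)

/-- Five inequivalent bases of a three dimensional space with trivial common stabiliser. -/
theorem five_bases (hρ : Function.Injective ρ) (hsol : Group.IsSolvable G) (b : Fin 3 → V)
    (hb : LinearIndependent F b) (hfix : ∀ h : G, (∀ k, ρ h (b k) = b k) → h = 1) :
    ∃ q : Fin 5 → Fin 3 → V, ∀ i j (h : G), (∀ k, ρ h (q i k) = q j k) → i = j ∧ h = 1 := by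
  classical
  haveI : Finite F := Finite.of_injective
    (fun c : F => c • b 0) (smul_left_injective F (hb.ne_zero 0))
  let act : Matrix (Fin 3) (Fin 3) F → Fin 3 → V := fun M k => ∑ l, M l k • b l
  have hact : ∀ M N k, ∑ l, N l k • act M l = act (M * N) k := by
    intro M N k
    simp only [act, Finset.smul_sum, smul_smul, Matrix.mul_apply, Finset.sum_smul]
    rw [Finset.sum_comm]
    exact Finset.sum_congr rfl fun i _ => Finset.sum_congr rfl fun l _ => by rw [mul_comm]
  have hone : ∀ k, act 1 k = b k := fun k => by simp [act, Matrix.one_apply]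
  have hinjA : ∀ M N, (∀ k, act M k = act N k) → M = N := by
    intro M N h
    ext l k
    have hs : ∑ i, (M i k - N i k) • b i = 0 := by
      simp only [sub_smul, Finset.sum_sub_distrib]
      exact sub_eq_zero.2 (h k)
    exact sub_eq_zero.1 (Fintype.linearIndependent_iff.1 hb _ hs l)
  have hmap : ∀ (h : G) M k, ρ h (act M k) = ∑ l, M l k • ρ h (b l) := fun h M k => by
    simp only [act, map_sum, map_smul]
  let S : Subgroup (Matrix (Fin 3) (Fin 3) F)ˣ :=
    { carrier := {M | ∃ h : G, ∀ k, ρ h (b k) = act M k}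
      one_mem' := ⟨1, fun k => by rw [map_one, Module.End.one_apply, Units.val_one, hone]⟩
      mul_mem' := fun {M N} ⟨g, hg⟩ ⟨h, hh⟩ => ⟨g * h, fun k => by
        rw [map_mul, Module.End.mul_apply, hh, hmap, Units.val_mul, ← hact]
        exact Finset.sum_congr rfl fun l _ => by rw [hg]⟩
      inv_mem' := fun {M} ⟨g, hg⟩ => ⟨g⁻¹, fun k => by
        apply apply_injective ρ g
        rw [apply_inv_cancel, hmap]
        simp only [hg]
        rw [hact, Units.mul_inv, hone]⟩ }
  have hu : ∀ g g' : G, (∀ k, ρ g (b k) = ρ g' (b k)) → g = g' := fun g g' h =>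
    (inv_mul_eq_one.1 (hfix (g⁻¹ * g') fun k => by
      rw [map_mul, Module.End.mul_apply, ← h, inv_apply_cancel]))
  choose φ hφ using fun M : S => M.2
  let Φ : S →* G :=
    { toFun := φ
      map_one' := hu _ _ fun k => by
        rw [hφ, map_one, Module.End.one_apply, OneMemClass.coe_one, Units.val_one, hone]
      map_mul' := fun M N => hu _ _ fun k => by
        rw [hφ, map_mul, Module.End.mul_apply, hφ, hmap, Subgroup.coe_mul, Units.val_mul, ← hact]
        exact Finset.sum_congr rfl fun l _ => by rw [hφ] }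
  have hΦ : Function.Injective Φ := fun M N h => Subtype.ext (Units.ext (hinjA _ _ fun k => by
    rw [← hφ, ← hφ]
    exact congrArg (fun g => ρ g (b k)) h))
  haveI : Group.IsSolvable G := hsol
  haveI hS : Group.IsSolvable S := Group.isSolvable_of_isSolvable_injective hΦ
  have hidx : 5 ≤ Nat.card ((Matrix (Fin 3) (Fin 3) F)ˣ ⧸ S) := by
    by_contra hlt
    haveI := PermSmall.isSolvable_perm_of_card_le_four (α := (Matrix (Fin 3) (Fin 3) F)ˣ ⧸ S) (by omega)
    refine not_isSolvable_three (F := F) (Group.isSolvable_of_ker_le_range S.subtype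
      (MulAction.toPermHom _ ((Matrix (Fin 3) (Fin 3) F)ˣ ⧸ S)) fun M hM => ?_)
    have h1 : M • (QuotientGroup.mk (1 : (Matrix (Fin 3) (Fin 3) F)ˣ) : (Matrix (Fin 3) (Fin 3) F)ˣ ⧸ S) =
        QuotientGroup.mk (1 : (Matrix (Fin 3) (Fin 3) F)ˣ) :=
      Equiv.congr_fun (MonoidHom.mem_ker.1 hM)
        (QuotientGroup.mk (1 : (Matrix (Fin 3) (Fin 3) F)ˣ) : (Matrix (Fin 3) (Fin 3) F)ˣ ⧸ S)
    rw [MulAction.Quotient.smul_mk, smul_eq_mul, mul_one, eq_comm, QuotientGroup.eq, inv_one, one_mul] at h1
    exact ⟨⟨M, h1⟩, rfl⟩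
  haveI := Fintype.ofFinite ((Matrix (Fin 3) (Fin 3) F)ˣ ⧸ S)
  obtain ⟨ι⟩ : Nonempty (Fin 5 ↪ (Matrix (Fin 3) (Fin 3) F)ˣ ⧸ S) :=
    Function.Embedding.nonempty_of_card_le (by rw [Fintype.card_fin, ← Nat.card_eq_fintype_card]; exact hidx)
  let m : Fin 5 → (Matrix (Fin 3) (Fin 3) F)ˣ := fun i => (Quotient.out (ι i))⁻¹
  refine ⟨fun i k => act (m i) k, fun i j h hh => ?_⟩
  have hX : ∀ k, ρ h (b k) = act ((m j * (m i)⁻¹ : (Matrix (Fin 3) (Fin 3) F)ˣ)) k := by
    intro k
    rw [Units.val_mul, ← hact, ← hone k, ← Units.mul_inv (m i), ← hact, map_sum]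
    simp only [map_smul]
    exact Finset.sum_congr rfl fun l _ => by rw [hh]
  have hq : ι j = ι i := by
    rw [← Quotient.out_eq' (ι j), ← Quotient.out_eq' (ι i)]
    refine QuotientGroup.eq.2 ?_
    have : m j * (m i)⁻¹ ∈ S := ⟨h, hX⟩
    simpa [m] using this
  obtain rfl := ι.injective hq
  refine ⟨rfl, hfix h fun k => ?_⟩
  rw [hX, mul_inv_cancel, Units.val_one, hone]

/-- Five inequivalent triples with trivial common stabiliser. -/
theorem five_triples (hρ : Function.Injective ρ) (hsol : Group.IsSolvable G) {x y z : V}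
    (hxyz : ∀ h : G, ρ h x = x → ρ h y = y → ρ h z = z → h = 1) :
    ∃ q : Fin 5 → Fin 3 → V, ∀ i j (h : G), (∀ k, ρ h (q i k) = q j k) → i = j ∧ h = 1 := by
  classical
  by_cases hind : LinearIndependent F ![x, y, z]
  · exact five_bases ρ hρ hsol ![x, y, z] hind fun h hh => hxyz h (hh 0) (hh 1) (hh 2)
  set U := Submodule.span F (Set.range ![x, y, z]) with hU
  have hd : Module.finrank F U ≤ 2 := by
    rw [linearIndependent_iff_card_eq_finrank_span, Fintype.card_fin] at hind
    have h3 : Set.finrank F (Set.range ![x, y, z]) ≤ 3 := by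
      have := finrank_range_le_card (R := F) ![x, y, z]
      simpa using this
    have : Module.finrank F U = Set.finrank F (Set.range ![x, y, z]) := rfl
    omega
  have hxU : x ∈ U ∧ y ∈ U ∧ z ∈ U := ⟨Submodule.subset_span ⟨0, rfl⟩, Submodule.subset_span ⟨1, rfl⟩,
    Submodule.subset_span ⟨2, rfl⟩⟩
  have hUfix : ∀ h : G, ∀ s : Set V, U ≤ Submodule.span F s → (∀ a ∈ s, ρ h a = a) → h = 1 := by
    intro h s hs ha
    have : U ≤ fix ρ h := hs.trans (Submodule.span_le.2 fun a hm => (mem_fix ρ).2 (ha a hm))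
    exact hxyz h ((mem_fix ρ).1 (this hxU.1)) ((mem_fix ρ).1 (this hxU.2.1)) ((mem_fix ρ).1 (this hxU.2.2))
  rcases (show Module.finrank F U ≤ 1 ∨ Module.finrank F U = 2 by omega) with hd1 | hd2
  · obtain ⟨a, ha, hUa⟩ : ∃ a : V, a ≠ 0 ∧ U ≤ Submodule.span F {a} := by
      rcases (show Module.finrank F U = 0 ∨ Module.finrank F U = 1 by omega) with h0 | h1
      · obtain ⟨a, ha⟩ := exists_ne (0 : V)
        exact ⟨a, ha, by rw [Submodule.finrank_eq_zero.1 h0]; exact bot_le⟩
      · let B := Module.finBasisOfFinrankEq F U h1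
        refine ⟨B 0, fun h => B.ne_zero 0 (Subtype.ext h), fun u hu => ?_⟩
        have h := congrArg Subtype.val (B.sum_repr ⟨u, hu⟩)
        rw [Fin.sum_univ_one, Submodule.coe_smul] at h
        rw [← show _ = u from h]
        exact Submodule.smul_mem _ _ (Submodule.mem_span_singleton_self _)
    refine ⟨![![a, 0, 0], ![0, a, 0], ![0, 0, a], ![a, a, 0], ![a, 0, a]], fun i j h hh => ?_⟩
    have h0 : ρ h a ≠ 0 := fun e => ha (apply_injective ρ h (e.trans (map_zero _).symm))
    have e0 := hh 0
    have e1 := hh 1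
    have e2 := hh 2
    have hij : i = j := by
      fin_cases i <;> fin_cases j <;> simp_all [eq_comm (a := (0 : V))]
    subst hij
    refine ⟨rfl, hUfix h _ hUa fun c hc => ?_⟩
    rw [Set.mem_singleton_iff.1 hc]
    fin_cases i <;> simp_all
  · let B := Module.finBasisOfFinrankEq F U hd2
    set a := ((B 0 : U) : V) with ha'
    set b := ((B 1 : U) : V) with hb'
    have ha : a ≠ 0 := fun h => B.ne_zero 0 (Subtype.ext h)
    have hb : b ≠ 0 := fun h => B.ne_zero 1 (Subtype.ext h)
    have hab : a ≠ b := fun h => absurd (B.injective (Subtype.ext h)) (by decide)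
    have habs : a + b ≠ 0 := fun h => by
      have h1 : B 0 + B 1 = 0 := Subtype.ext h
      have := congrArg (fun u => B.repr u 0) h1
      simp at this
    have hUab : U ≤ Submodule.span F {a, b} := fun u hu => by
      have h := congrArg Subtype.val (B.sum_repr ⟨u, hu⟩)
      rw [Fin.sum_univ_two, Submodule.coe_add, Submodule.coe_smul, Submodule.coe_smul] at h
      rw [← show _ = u from h]
      exact Submodule.add_mem _ (Submodule.smul_mem _ _ (Submodule.subset_span (by simp [ha'])))
        (Submodule.smul_mem _ _ (Submodule.subset_span (by simp [hb'])))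
    refine ⟨![![a, b, 0], ![a, b, a], ![a, b, b], ![a, b, a + b], ![a, 0, b]], fun i j h hh => ?_⟩
    have h0 : ρ h b ≠ 0 := fun e => hb (apply_injective ρ h (e.trans (map_zero _).symm))
    have e0 := hh 0
    have e1 := hh 1
    have e2 := hh 2
    clear_value a b
    have hij : i = j := by
      fin_cases i <;> fin_cases j <;> simp_all [eq_comm (a := (0 : V))]
    subst hij
    refine ⟨rfl, hUfix h _ hUab fun c hc => ?_⟩
    fin_cases i <;> rcases hc with hc | hc <;> simp_all

end Cfsg.Agent.SolBase
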