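import Cfsg.Agent.Lib.SolBase.Primitive
import Cfsg.Agent.Lib.SolBase.Perm
import Cfsg.Agent.Lib.SolBase.Triples
import Mathlib.Algebra.Module.ZMod

/-!
Three vectors with trivial common stabiliser for soluble groups acting completely reducibly.
-/

set_option autoImplicit false
set_option linter.style.haveILetI false
set_option linter.unusedSectionVars false

namespace Cfsg.Agent.SolBase

open PrimSol

universe u v

variable {F : Type*} [Field F]

/-- Three vectors with trivial common stabiliser for an irreducible soluble linear group. -/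
theorem three_irred : ∀ (n : ℕ) (V : Type v) [AddCommGroup V] [Module F V] [FiniteDimensional F V]
    [Finite V] [Nontrivial V] (G : Type u) [Group G] [Finite G] (ρ : G →* Module.End F V),
    Module.finrank F V = n → Function.Injective ρ → Irred ρ → Group.IsSolvable G →
      ∃ x y z : V, ∀ g : G, ρ g x = x → ρ g y = y → ρ g z = z → g = 1 := by
  intro n
  induction n using Nat.strong_induction_on with
  | _ n ih =>
  intro V _ _ _ _ _ G _ _ ρ hn hρ hirr hsol
  classical
  by_cases hprim : NoDecomp ρ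
  · exact three_vectors_primitive ρ hρ hirr hprim hsol
  simp only [NoDecomp, not_forall] at hprim
  obtain ⟨m, t, D, ht, hm, hrank, hind, htop, hperm, -⟩ := hprim
  have hDne : ∀ i, D i ≠ ⊥ := fun i h => by
    have := hrank i
    rw [h, finrank_bot] at this
    omega
  have hDinj : Function.Injective D := hind.injective hDne
  choose π hπ using hperm
  have hπm : ∀ g h i, π (g * h) i = π g (π h i) := by
    intro g h i
    apply hDinj
    rw [← hπ, ← hπ, ← hπ, map_mul, Module.End.mul_eq_comp, Submodule.map_comp]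
  have hπ1 : ∀ i, π 1 i = i := fun i => hDinj (by
    rw [← hπ, map_one, Module.End.one_eq_id, Submodule.map_id])
  letI : MulAction G (Fin t) :=
    { smul := π
      one_smul := hπ1
      mul_smul := hπm }
  have hmem : ∀ g i, ∀ x ∈ D i, ρ g x ∈ D (π g i) := fun g i x hx => by
    rw [← hπ]; exact Submodule.mem_map_of_mem hx
  -- transitivity
  have horb : ∀ i j, ∃ g, π g i = j := by
    intro i j
    set W := ⨆ g : G, D (π g i) with hW
    have hinv : ∀ g : G, ∀ w ∈ W, ρ g w ∈ W := by
      intro g w hw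
      refine Submodule.iSup_induction (fun g => D (π g i)) (motive := fun w => ρ g w ∈ W) hw ?_ ?_ ?_
      · intro h x hx
        have h2 := hmem g _ x hx
        rw [← hπm] at h2
        exact Submodule.mem_iSup_of_mem (g * h) h2
      · rw [map_zero]; exact W.zero_mem
      · intro x y hx hy
        rw [map_add]; exact W.add_mem hx hy
    rcases hirr W hinv with h | h
    · exact absurd (le_bot_iff.1 ((le_iSup (fun g => D (π g i)) 1).trans h.le)) (hDne _)
    · by_contra hcon
      push Not at hcon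
      have hle : W ≤ ⨆ (k) (_ : k ≠ j), D k :=
        iSup_le fun g => le_iSup₂ (f := fun k (_ : k ≠ j) => D k) (π g i) (hcon g)
      rw [h, top_le_iff] at hle
      have hd := hind j
      rw [hle, disjoint_top] at hd
      exact hDne j hd
  let i0 : Fin t := ⟨0, by omega⟩
  choose r hr using horb i0
  have hrinv : ∀ j, π (r j)⁻¹ j = i0 := fun j => by
    refine (congrArg (π (r j)⁻¹) (hr j)).symm.trans ?_
    rw [← hπm, inv_mul_cancel, hπ1]
  -- the group of the block
  let K : Subgroup G := MulAction.stabilizer G i0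
  have hK : ∀ k ∈ K, ∀ x ∈ D i0, ρ k x ∈ D i0 := fun k hk x hx => by
    have h2 := hmem k i0 x hx
    rwa [show π k i0 = i0 from hk] at h2
  let σ : K →* Module.End F (D i0) :=
    { toFun := fun k => (ρ (k : G)).restrict (hK k k.2)
      map_one' := LinearMap.ext fun x => Subtype.ext (by
        show ρ ((1 : K) : G) (x : V) = x
        rw [OneMemClass.coe_one, map_one, Module.End.one_apply])
      map_mul' := fun a b => LinearMap.ext fun x => Subtype.ext (by
        show ρ ((a * b : K) : G) (x : V) = ρ (a : G) (ρ (b : G) x)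
        rw [Subgroup.coe_mul, map_mul, Module.End.mul_apply]) }
  let σu := σ.toHomUnits
  let τ : K ⧸ σu.ker →* Module.End F (D i0) := (Units.coeHom _).comp (QuotientGroup.kerLift σu)
  have hτ : Function.Injective τ := fun a b h => QuotientGroup.kerLift_injective σu (Units.ext h)
  have hτk : ∀ (k : K) (x : D i0), ((τ (k : K ⧸ σu.ker) x : D i0) : V) = ρ (k : G) x := fun k x => rfl
  haveI hnt : Nontrivial (D i0) := Submodule.nontrivial_iff_ne_bot.2 (hDne i0)
  haveI : Group.IsSolvable G := hsol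
  haveI hKs : Group.IsSolvable (K ⧸ σu.ker) := inferInstance
  have hdim : Module.finrank F (D i0) < n := by
    rw [← hn]
    refine Submodule.finrank_lt (fun h => ?_)
    have hne : (⟨1, by omega⟩ : Fin t) ≠ i0 := by simp [i0, Fin.ext_iff]
    have hd := (hind.pairwiseDisjoint hne.symm).eq_bot
    rw [h, top_inf_eq] at hd
    exact hDne _ hd
  have hirr0 : Irred τ := by
    intro W hW
    by_contra hcon
    push Not at hcon
    obtain ⟨hW1, hW2⟩ := hcon
    let W0 : Submodule F V := W.map (D i0).subtype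
    have hW0 : ∀ k ∈ K, ∀ x ∈ W0, ρ k x ∈ W0 := by
      rintro k hk x ⟨y, hy, rfl⟩
      exact ⟨τ ((⟨k, hk⟩ : K) : K ⧸ σu.ker) y, hW _ y hy, hτk ⟨k, hk⟩ y⟩
    let W' : Submodule F V := ⨆ j, W0.map (ρ (r j))
    have hinv : ∀ g : G, ∀ w ∈ W', ρ g w ∈ W' := by
      intro g w hw
      refine Submodule.iSup_induction (fun j => W0.map (ρ (r j))) (motive := fun w => ρ g w ∈ W') hw ?_ ?_ ?_
      · rintro j x ⟨y, hy, rfl⟩
        have hk : (r (π g j))⁻¹ * g * r j ∈ K := by
          show π _ i0 = i0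
          rw [hπm, hr, hπm, hrinv]
        refine Submodule.mem_iSup_of_mem (π g j) ⟨ρ ((r (π g j))⁻¹ * g * r j) y, hW0 _ hk y hy, ?_⟩
        simp only [map_mul, Module.End.mul_apply, apply_inv_cancel]
      · rw [map_zero]; exact W'.zero_mem
      · intro x y hx hy
        rw [map_add]; exact W'.add_mem hx hy
    have hW0D : W0 ≤ D i0 := Submodule.map_subtype_le _ _
    rcases hirr W' hinv with h | h
    · refine hW1 (Submodule.map_injective_of_injective (D i0).injective_subtype ?_)
      rw [Submodule.map_bot, ← le_bot_iff]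
      intro x hx
      have h2 : ρ (r i0) x ∈ W' := Submodule.mem_iSup_of_mem i0 (Submodule.mem_map_of_mem hx)
      rw [h, Submodule.mem_bot] at h2
      rw [Submodule.mem_bot]
      exact apply_injective ρ _ (h2.trans (map_zero _).symm)
    · refine hW2 (Submodule.map_injective_of_injective (D i0).injective_subtype ?_)
      rw [Submodule.map_top, Submodule.range_subtype]
      refine le_antisymm hW0D ?_
      let R : Submodule F V := ⨆ (k) (_ : k ≠ i0), D k
      have hle : W' ≤ W0 ⊔ R := by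
        refine iSup_le fun j => ?_
        by_cases hj : j = i0
        · rintro _ ⟨y, hy, rfl⟩
          exact Submodule.mem_sup_left (hW0 _ (by show π (r j) i0 = i0; rw [hr, hj]) y hy)
        · refine le_sup_of_le_right (le_trans ?_ (le_iSup₂ (f := fun k (_ : k ≠ i0) => D k) j hj))
          rintro _ ⟨y, hy, rfl⟩
          have h2 := hmem (r j) i0 y (hW0D hy)
          rwa [hr] at h2
      intro x hx
      have hx' : x ∈ W0 ⊔ R := hle (h ▸ Submodule.mem_top)
      obtain ⟨a, ha, b, hb, rfl⟩ := Submodule.mem_sup.1 hx'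
      have hbD : b ∈ D i0 := by
        have := (D i0).sub_mem hx (hW0D ha)
        rwa [add_sub_cancel_left] at this
      have hb0 : b = 0 := Submodule.disjoint_def.1 (hind i0) b hbD hb
      rw [hb0, add_zero]
      exact ha
  obtain ⟨x, y, z, hxyz⟩ := ih _ hdim (D i0) (K ⧸ σu.ker) τ rfl hτ hirr0 hKs
  obtain ⟨q, hq⟩ := five_triples τ hτ hKs hxyz
  -- the colouring of the blocks
  haveI : MulAction.IsPretransitive G (Fin t) := ⟨fun i j => ⟨r j * (r i)⁻¹, by
    show π _ i = j
    rw [hπm, hrinv, hr]⟩⟩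
  obtain ⟨f, hf⟩ := exists_distinguishing (G := G) (Ω := Fin t) hsol (a := i0) (b := ⟨1, by omega⟩)
    (by simp [i0, Fin.ext_iff])
  let v : Fin 3 → V := fun k => ∑ i, ρ (r i) (q (f i) k : V)
  have hsep : ∀ c : Fin t → V, (∀ i, c i ∈ D i) → ∑ i, c i = 0 → ∀ i, c i = 0 := fun c hc h i =>
    ((iSupIndep_iff_finset_sum_eq_zero_imp_eq_zero D).1 hind Finset.univ c (fun j _ => hc j) h) i
      (Finset.mem_univ i)
  refine ⟨v 0, v 1, v 2, fun g h0 h1 h2 => ?_⟩
  have hfix : ∀ k, ρ g (v k) = v k := by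
    intro k
    fin_cases k
    · exact h0
    · exact h1
    · exact h2
  have hki : ∀ i, (r (π g i))⁻¹ * g * r i ∈ K := fun i => by
    show π _ i0 = i0
    rw [hπm, hr, hπm, hrinv]
  have hcomp : ∀ i k, ρ ((r (π g i))⁻¹ * g * r i) (q (f i) k : V) = q (f (π g i)) k := by
    intro i k
    let e : Fin t ≃ Fin t := MulAction.toPerm g
    have hs : ∑ j, (ρ g (ρ (r (e.symm j)) (q (f (e.symm j)) k : V)) - ρ (r j) (q (f j) k : V)) = 0 := by
      rw [Finset.sum_sub_distrib, sub_eq_zero]
      refine Eq.trans ?_ (hfix k)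
      rw [map_sum]
      exact e.symm.sum_comp fun j => ρ g (ρ (r j) (q (f j) k : V))
    have h3 := hsep _ (fun j => ?_) hs (e i)
    · rw [sub_eq_zero, e.symm_apply_apply] at h3
      simp only [map_mul, Module.End.mul_apply]
      rw [h3]
      exact inv_apply_cancel ρ _ _
    · refine Submodule.sub_mem _ ?_ ?_
      · have hej : π g (e.symm j) = j := e.apply_symm_apply j
        have hin : ρ (r (e.symm j)) (q (f (e.symm j)) k : V) ∈ D (e.symm j) := by
          have h4 := hmem (r (e.symm j)) i0 _ (q (f (e.symm j)) k).2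
          rwa [hr] at h4
        have h5 := hmem g _ _ hin
        rwa [hej] at h5
      · have h4 := hmem (r j) i0 _ (q (f j) k).2
        rwa [hr] at h4
  have hH : ∀ i, f i = f (π g i) ∧ ((⟨_, hki i⟩ : K) : K ⧸ σu.ker) = 1 := fun i =>
    hq _ _ _ fun k => Subtype.ext ((hτk _ _).trans (hcomp i k))
  have hg := hf g fun i => (hH i).1.symm
  refine hρ ((LinearMap.ext fun u => ?_).trans (map_one ρ).symm)
  rw [Module.End.one_apply]
  have hu : u ∈ ⨆ i, D i := htop ▸ Submodule.mem_top
  refine Submodule.iSup_induction D (motive := fun u => ρ g u = u) hu ?_ (map_zero _)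
    (fun a b ha hb => by rw [map_add, ha, hb])
  intro i u hu
  obtain ⟨u', hu', rfl⟩ : ∃ u' ∈ D i0, ρ (r i) u' = u := by
    rw [← hr i, ← hπ] at hu
    exact Submodule.mem_map.1 hu
  have h5 := congrArg (fun h : K ⧸ σu.ker => ((τ h ⟨u', hu'⟩ : D i0) : V)) (hH i).2
  simp only [map_one, Module.End.one_apply] at h5
  rw [hτk] at h5
  have hgi : π g i = i := hg i
  simp only [hgi, map_mul, Module.End.mul_apply] at h5
  have h6 := congrArg (ρ (r i)) h5
  rwa [apply_inv_cancel] at h6

section Additive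

variable {A : Type u} [Group A] [Finite A] {V : Type v} [AddCommGroup V] [Finite V] [DistribMulAction A V]

/-- Three vectors whose common stabiliser acts trivially, for an irreducible module. -/
theorem three_module (F : Type*) [Field F] {U : Type v} [AddCommGroup U] [Module F U] [FiniteDimensional F U]
    [Finite U] [Nontrivial U] [DistribMulAction A U] [SMulCommClass A F U] (hA : Group.IsSolvable A)
    (hirr : ∀ W : Submodule F U, (∀ a : A, ∀ w ∈ W, a • w ∈ W) → W = ⊥ ∨ W = ⊤) :
    ∃ u : Fin 3 → U, ∀ a : A, (∀ k, a • u k = u k) → ∀ v : U, a • v = v := by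
  classical
  let ρ₀ : A →* Module.End F U := DistribMulAction.toModuleEnd F U
  let σu := ρ₀.toHomUnits
  let ρ : A ⧸ σu.ker →* Module.End F U := (Units.coeHom _).comp (QuotientGroup.kerLift σu)
  have hρ : Function.Injective ρ := fun a b h => QuotientGroup.kerLift_injective σu (Units.ext h)
  have hρk : ∀ (a : A) (v : U), ρ (a : A ⧸ σu.ker) v = a • v := fun a v => rfl
  have hi : Irred ρ := fun W hW => hirr W fun a w hw => hρk a w ▸ hW _ w hw
  haveI : Group.IsSolvable A := hA
  obtain ⟨x, y, z, h⟩ := three_irred _ U (A ⧸ σu.ker) ρ rfl hρ hi inferInstance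
  refine ⟨![x, y, z], fun a ha v => ?_⟩
  have h1 := h (a : A ⧸ σu.ker) ((hρk a x).trans (ha 0)) ((hρk a y).trans (ha 1)) ((hρk a z).trans (ha 2))
  rw [← hρk a v, h1, map_one, Module.End.one_apply]

/-- Three vectors whose common stabiliser acts trivially, for an irreducible elementary abelian group. -/
theorem three_elementary {U : Type v} [AddCommGroup U] [Finite U] [Nontrivial U] [DistribMulAction A U]
    (p : ℕ) [Fact p.Prime] (hA : Group.IsSolvable A) (hp : ∀ v : U, p • v = 0)
    (hirr : ∀ X : AddSubgroup U, (∀ a : A, ∀ w ∈ X, a • w ∈ X) → X = ⊥ ∨ X = ⊤) :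
    ∃ u : Fin 3 → U, ∀ a : A, (∀ k, a • u k = u k) → ∀ v : U, a • v = v := by
  haveI : Module (ZMod p) U := AddCommGroup.zmodModule hp
  haveI : SMulCommClass A (ZMod p) U :=
    ⟨fun a c v => ZMod.map_smul (DistribSMul.toAddMonoidHom U a) c v⟩
  haveI : FiniteDimensional (ZMod p) U := Module.Finite.of_finite
  refine three_module (A := A) (ZMod p) hA fun W hW => ?_
  refine (hirr W.toAddSubgroup hW).imp (fun h => Submodule.toAddSubgroup_injective (h.trans ?_))
    (fun h => Submodule.toAddSubgroup_injective (h.trans ?_))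
  · rfl
  · rfl

/-- A minimal invariant subgroup has three vectors whose common stabiliser fixes it. -/
theorem three_minimal (hA : Group.IsSolvable A) (U : AddSubgroup V)
    (hU : ∀ a : A, ∀ v ∈ U, a • v ∈ U) (hne : U ≠ ⊥)
    (hmin : ∀ X : AddSubgroup V, X ≤ U → (∀ a : A, ∀ v ∈ X, a • v ∈ X) → X = ⊥ ∨ X = U) :
    ∃ u : Fin 3 → V, (∀ k, u k ∈ U) ∧ ∀ a : A, (∀ k, a • u k = u k) → ∀ v ∈ U, a • v = v := by
  classical
  haveI hUnt : Nontrivial U := (AddSubgroup.nontrivial_iff_ne_bot U).2 hne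
  obtain ⟨p, hp, hpd⟩ := Nat.exists_prime_and_dvd (Finite.one_lt_card (α := U)).ne'
  haveI := Fact.mk hp
  obtain ⟨x, hx⟩ := exists_prime_addOrderOf_dvd_card' p hpd
  let T : AddSubgroup V :=
    { carrier := {v | v ∈ U ∧ p • v = 0}
      zero_mem' := ⟨U.zero_mem, smul_zero _⟩
      add_mem' := fun {a b} ha hb => ⟨U.add_mem ha.1 hb.1, by rw [smul_add, ha.2, hb.2, add_zero]⟩
      neg_mem' := fun {a} ha => ⟨U.neg_mem ha.1, by rw [smul_neg, ha.2, neg_zero]⟩ }
  have hTU : T = U := by
    refine (hmin T (fun v hv => hv.1) fun a v hv => ⟨hU a v hv.1, ?_⟩).resolve_left fun hT => ?_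
    · rw [smul_comm, hv.2, smul_zero]
    · have hxT : (x : V) ∈ T := ⟨x.2, by
        rw [← AddSubgroup.coe_nsmul, ← hx, addOrderOf_nsmul_eq_zero, ZeroMemClass.coe_zero]⟩
      rw [hT, AddSubgroup.mem_bot] at hxT
      rw [show x = 0 from Subtype.ext hxT, addOrderOf_zero] at hx
      exact hp.ne_one hx.symm
  have hpU : ∀ v : U, p • v = 0 := fun v => Subtype.ext (by
    rw [AddSubgroup.coe_nsmul, ZeroMemClass.coe_zero]
    exact (show (v : V) ∈ T by rw [hTU]; exact v.2).2)
  let f₀ : A → U →+ U := fun a =>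
    { toFun := fun v => (⟨a • (v : V), hU a v v.2⟩ : U)
      map_zero' := Subtype.ext (smul_zero a)
      map_add' := fun v w => Subtype.ext (smul_add a (v : V) w) }
  letI : DistribMulAction A U :=
    { smul := fun a v => f₀ a v
      one_smul := fun v => Subtype.ext (one_smul A (v : V))
      mul_smul := fun a b v => Subtype.ext (mul_smul a b (v : V))
      smul_zero := fun a => (f₀ a).map_zero
      smul_add := fun a v w => (f₀ a).map_add v w }
  obtain ⟨u, hu⟩ := three_elementary (A := A) p hA hpU fun X hX => by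
    have hX' := hmin (X.map U.subtype) (fun v ⟨w, _, hw⟩ => hw ▸ w.2) fun a v ⟨w, hw, hwv⟩ =>
      ⟨a • w, hX a w hw, by rw [← hwv]; rfl⟩
    refine hX'.imp (fun h => ?_) fun h => ?_
    · refine (AddSubgroup.eq_bot_iff_forall X).2 fun w hw => Subtype.ext ?_
      have : (w : V) ∈ X.map U.subtype := ⟨w, hw, rfl⟩
      rwa [h, AddSubgroup.mem_bot] at this
    · refine (AddSubgroup.eq_top_iff' X).2 fun w => ?_
      obtain ⟨w', hw', he⟩ : (w : V) ∈ X.map U.subtype := by rw [h]; exact w.2
      rwa [← Subtype.ext he]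
  refine ⟨fun k => (u k : V), fun k => (u k).2, fun a ha v hv => ?_⟩
  exact congrArg Subtype.val (hu a (fun k => Subtype.ext (ha k)) ⟨v, hv⟩)

/-- Three vectors whose common stabiliser fixes a given invariant subgroup. -/
theorem three_invariant (hA : Group.IsSolvable A)
    (hcr : ∀ U : AddSubgroup V, (∀ a : A, ∀ v ∈ U, a • v ∈ U) →
      ∃ W : AddSubgroup V, (∀ a : A, ∀ w ∈ W, a • w ∈ W) ∧ U ⊓ W = ⊥ ∧ U ⊔ W = ⊤) :
    ∀ (W : AddSubgroup V), (∀ a : A, ∀ w ∈ W, a • w ∈ W) →
      ∃ u : Fin 3 → V, (∀ k, u k ∈ W) ∧ ∀ a : A, (∀ k, a • u k = u k) → ∀ v ∈ W, a • v = v := by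
  intro W
  induction hN : Nat.card W using Nat.strong_induction_on generalizing W with
  | _ N ih =>
  intro hW
  classical
  by_cases hW0 : W = ⊥
  · exact ⟨0, fun _ => W.zero_mem, fun a _ v hv => by
      rw [hW0, AddSubgroup.mem_bot] at hv; rw [hv, smul_zero]⟩
  haveI := Fintype.ofFinite (AddSubgroup V)
  obtain ⟨U, hUm, hUmin⟩ := Finset.exists_min_image
    (Finset.univ.filter fun U : AddSubgroup V => U ≤ W ∧ U ≠ ⊥ ∧ ∀ a : A, ∀ v ∈ U, a • v ∈ U)
    (fun U => Nat.card U) ⟨W, Finset.mem_filter.2 ⟨Finset.mem_univ _, le_rfl, hW0, hW⟩⟩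
  obtain ⟨hUW, hU0, hUinv⟩ := (Finset.mem_filter.1 hUm).2
  obtain ⟨u, huU, hu⟩ := three_minimal hA U hUinv hU0 fun X hXU hX => by
    by_cases hX0 : X = ⊥
    · exact Or.inl hX0
    · exact Or.inr (AddSubgroup.eq_of_le_of_card_ge hXU
        (hUmin X (Finset.mem_filter.2 ⟨Finset.mem_univ _, hXU.trans hUW, hX0, hX⟩)))
  obtain ⟨X, hX, hUX, hUXt⟩ := hcr U hUinv
  have hlt : Nat.card (X ⊓ W : AddSubgroup V) < Nat.card W := by
    refine lt_of_not_ge fun h => hU0 ?_
    have h2 : W ≤ X := inf_eq_right.1 (AddSubgroup.eq_of_le_of_card_ge inf_le_right h)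
    rw [← le_bot_iff, ← hUX]
    exact le_inf le_rfl (hUW.trans h2)
  obtain ⟨u', hu'X, hu'⟩ := ih _ (hN ▸ hlt) (X ⊓ W) rfl fun a v hv => ⟨hX a v hv.1, hW a v hv.2⟩
  refine ⟨fun k => u k + u' k, fun k => W.add_mem (hUW (huU k)) (hu'X k).2, fun a ha v hv => ?_⟩
  have hk : ∀ k, a • u k = u k ∧ a • u' k = u' k := by
    intro k
    have h1 : a • u k - u k = u' k - a • u' k := by
      have := ha k
      rw [smul_add] at this
      rw [sub_eq_sub_iff_add_eq_add, this, add_comm]
    have h2 : a • u k - u k ∈ U ⊓ X :=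
      ⟨U.sub_mem (hUinv a _ (huU k)) (huU k), h1 ▸ X.sub_mem (hu'X k).1 (hX a _ (hu'X k).1)⟩
    rw [hUX, AddSubgroup.mem_bot] at h2
    exact ⟨sub_eq_zero.1 h2, (sub_eq_zero.1 (h1 ▸ h2)).symm⟩
  have hv' : v ∈ U ⊔ X := hUXt ▸ AddSubgroup.mem_top v
  obtain ⟨c, hc, d, hd, rfl⟩ := AddSubgroup.mem_sup.1 hv'
  have hdW : d ∈ W := by
    have := W.sub_mem hv (hUW hc)
    rwa [add_sub_cancel_left] at this
  rw [smul_add, hu a (fun k => (hk k).1) c hc, hu' a (fun k => (hk k).2) d ⟨hd, hdW⟩]

end Additive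

end Cfsg.Agent.SolBase
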