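import Cfsg.Agent.Lib.SolBase.Colouring
import Cfsg.Agent.Lib.SolBase.Gens

/-!
Three vectors with trivial common stabiliser for a primitive soluble linear group.
-/

set_option autoImplicit false
set_option linter.style.haveILetI false
set_option linter.unusedSectionVars false

namespace Cfsg.Agent.SolBase

open PrimSol
open scoped commutatorElement

variable {F : Type*} [Field F] {V : Type*} [AddCommGroup V] [Module F V] [FiniteDimensional F V]
  [Finite V] [Nontrivial V] {G : Type*} [Group G] [Finite G] {ρ : G →* Module.End F V}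
  {A E : Subgroup G}

/-- Translates of a fixed vector that are fixed form a subgroup, under a commutation hypothesis. -/
theorem fix_closure {w : V} {g : G} (hgw : ρ g w = w) {N : Subgroup G}
    (hN : ∀ n ∈ N, g * n * g⁻¹ ∈ N) (hcomm : ∀ l ∈ N, ρ l w = w → ∀ n ∈ N, l * n = n * l)
    {S : Set G} (hS : S ⊆ N) (hfix : ∀ s ∈ S, ρ g (ρ s w) = ρ s w) :
    ∀ n ∈ Subgroup.closure S, ρ g (ρ n w) = ρ n w := by
  have hcl : Subgroup.closure S ≤ N := (Subgroup.closure_le N).2 hS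
  have hgw' : ρ g⁻¹ w = w := by
    conv_lhs => rw [← hgw]
    exact inv_apply_cancel ρ g w
  have key : ∀ m ∈ N, ρ g (ρ m w) = ρ m w →
      m⁻¹ * g * m * g⁻¹ ∈ N ∧ ρ (m⁻¹ * g * m * g⁻¹) w = w := by
    intro m hm h
    refine ⟨?_, ?_⟩
    · have := N.mul_mem (N.inv_mem hm) (hN m hm)
      rwa [show m⁻¹ * (g * m * g⁻¹) = m⁻¹ * g * m * g⁻¹ by group] at this
    · simp only [map_mul, Module.End.mul_apply, hgw', h, inv_apply_cancel]
  intro n hn
  induction hn using Subgroup.closure_induction with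
  | mem x hx => exact hfix x hx
  | one => rw [map_one, Module.End.one_apply, hgw]
  | mul x y hx hy ihx ihy =>
    obtain ⟨hq, hqw⟩ := key x (hcl hx) ihx
    calc ρ g (ρ (x * y) w) = ρ (x * (x⁻¹ * g * x * g⁻¹)) (ρ g (ρ y w)) := by
          rw [← Module.End.mul_apply, ← Module.End.mul_apply, ← Module.End.mul_apply, ← map_mul, ← map_mul,
            ← map_mul, show x * (x⁻¹ * g * x * g⁻¹) * g * y = g * (x * y) by group]
      _ = ρ (x * ((x⁻¹ * g * x * g⁻¹) * y)) w := by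
          rw [ihy, ← Module.End.mul_apply, ← map_mul, mul_assoc x]
      _ = ρ (x * y) w := by
          rw [hcomm _ hq hqw y (hcl hy), ← mul_assoc x y, map_mul, Module.End.mul_apply, hqw]
  | inv x hx ihx =>
    obtain ⟨hq, hqw⟩ := key x (hcl hx) ihx
    set q := x⁻¹ * g * x * g⁻¹ with hqd
    have hc := hcomm q hq hqw x (hcl hx)
    have e : g * x⁻¹ = x⁻¹ * q⁻¹ * g := by
      have h1 : q * x = g * x * g⁻¹ := by rw [hc, hqd]; group
      rw [← mul_inv_rev, h1]; group
    have hqi : ρ q⁻¹ w = w := by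
      conv_lhs => rw [← hqw]
      exact inv_apply_cancel ρ q w
    rw [← Module.End.mul_apply, ← map_mul, e, map_mul, Module.End.mul_apply, hgw, map_mul,
      Module.End.mul_apply, hqi]

/-- An element centralising the scalars and fixing all translates of a vector by the layer is trivial. -/
theorem IsLayer.eq_one_of_fix (hl : IsLayer ρ A E) {g : G} (hgA : ∀ a ∈ A, g * a = a * g) {w : V}
    (hw : w ≠ 0) (hfix : ∀ f ∈ E, ρ g (ρ f w) = ρ f w) : g = 1 := by
  have hgw : ρ g w = w := by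
    have := hfix 1 E.one_mem
    rwa [map_one, Module.End.one_apply] at this
  have hgw' : ρ g⁻¹ w = w := by
    conv_lhs => rw [← hgw]
    exact inv_apply_cancel ρ g w
  have hqw : ∀ f ∈ E, ρ (f⁻¹ * g * f * g⁻¹) w = w := fun f hf => by
    simp only [map_mul, Module.End.mul_apply, hgw', hfix f hf, inv_apply_cancel]
  have hqE : ∀ f ∈ E, f⁻¹ * g * f * g⁻¹ ∈ E := fun f hf => by
    have := E.mul_mem (E.inv_mem hf) (hl.normal.conj_mem f hf g)
    rwa [show f⁻¹ * (g * f * g⁻¹) = f⁻¹ * g * f * g⁻¹ by group] at this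
  have hone : ∀ f ∈ E, f⁻¹ * g * f * g⁻¹ = 1 := by
    intro f hf
    set q := f⁻¹ * g * f * g⁻¹ with hqd
    have hcq : ∀ h ∈ E, q * h = h * q := by
      intro h hh
      set b := h⁻¹ * q * h with hb
      have e1 : b = (f * h)⁻¹ * g * (f * h) * g⁻¹ * (h⁻¹ * g * h * g⁻¹)⁻¹ := by
        rw [hb, hqd]; group
      have hbw : ρ b w = w := by
        have hi : ρ (h⁻¹ * g * h * g⁻¹)⁻¹ w = w := by
          conv_lhs => rw [← hqw h hh]
          exact inv_apply_cancel ρ _ w
        rw [e1, map_mul, Module.End.mul_apply, hi, hqw (f * h) (E.mul_mem hf hh)]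
      have hbA : q⁻¹ * b ∈ A := by
        have := hl.der q⁻¹ (E.inv_mem (hqE f hf)) h⁻¹ (E.inv_mem hh)
        rwa [show ⁅q⁻¹, h⁻¹⁆ = q⁻¹ * b by rw [hb, commutatorElement_def]; group] at this
      have h1 : q⁻¹ * b = 1 := hl.eq_one hbA hw (by
        rw [map_mul, Module.End.mul_apply, hbw]
        conv_lhs => rw [← hqw f hf]
        exact inv_apply_cancel ρ _ w)
      calc q * h = h * b := by rw [hb]; group
        _ = h * q := by rw [inv_mul_eq_one.1 h1]
    exact hl.eq_one (hl.self q (hl.cent q (hqE f hf)) hcq) hw (hqw f hf)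
  have hgE : ∀ f ∈ E, g * f = f * g := fun f hf => by
    calc g * f = f * (f⁻¹ * g * f * g⁻¹) * g := by group
      _ = f * g := by rw [hone f hf, mul_one]
  exact hl.eq_one (hl.self g hgA hgE) hw hgw

/-- The layer has no element of order equal to the characteristic. -/
theorem IsLayer.eq_one_of_pow_char (hl : IsLayer ρ A E) {p : ℕ} [Fact p.Prime] [CharP F p] {f : G}
    (hf : f ∈ E) (hfp : f ^ p = 1) : f = 1 := by
  haveI : CharP (Module.End F V) p :=
    charP_of_injective_algebraMap (FaithfulSMul.algebraMap_injective F (Module.End F V)) p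
  have key : ∀ a ∈ A, a ^ p = 1 → a = 1 := by
    intro a ha hap
    have h0 : (ρ a - 1) ^ p = 0 := by
      rw [sub_pow_char_of_commute (p := p) (h := Commute.one_right (ρ a)), ← map_pow, hap, map_one, one_pow,
        sub_self]
    have : ∀ n, (ρ a - 1) ^ n = 0 → ρ a - 1 = 0 := by
      intro n
      induction n with
      | zero => intro h1; rw [pow_zero] at h1; exact absurd h1 one_ne_zero
      | succ n ih =>
        intro h1
        rw [pow_succ'] at h1
        exact (hl.scal.eq_zero_or (sub_mem (hl.scalar ha) (one_mem _)) h1).elim id ih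
    exact hl.inj ((sub_eq_zero.1 (this p h0)).trans (map_one ρ).symm)
  refine key f (hl.self f (hl.cent f hf) fun h hh => ?_) hfp
  refine commutatorElement_eq_one_iff_mul_comm.1 (key _ (hl.der f hf h hh) ?_)
  exact hl.comm_pow_eq_one hf hh (by rw [hfp]; exact A.one_mem)

/-- A sum of translates of eigenvectors by elements in distinct cosets determines its terms. -/
theorem IsTop.expansion_zero {w : V} (ht : IsTop ρ A E w) {ι : Type*} [Fintype ι] (f : ι → G)
    (hf : ∀ i, f i ∈ E) (hinj : ∀ i j, (f i)⁻¹ * f j ∈ ht.N → i = j) (c : ι → V)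
    (hc : ∀ i, ∀ l ∈ ht.L, ∀ k ∈ alg ρ A, ρ l w = k w → ρ l (c i) = k (c i))
    (h : ∑ i, ρ (f i) (c i) = 0) : ∀ i, c i = 0 := by
  classical
  haveI : Finite (Module.End F V) := Finite.of_injective _ DFunLike.coe_injective
  haveI := Fintype.ofFinite ht.L
  have hl := ht.toIsLayer
  have hk : ∀ l : ht.L, ∃ k ∈ alg ρ A, ρ (l : G) w = k w := fun l => l.2.2
  choose k hkm hkw using hk
  have hkk : ∀ l : ht.L, k l⁻¹ * k l = 1 := by
    intro l
    refine hl.scal.eq_of_apply (mul_mem (hkm _) (hkm _)) (one_mem _) ht.ne ?_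
    rw [Module.End.mul_apply, ← hkw l, ← Module.End.mul_apply,
      ← hl.commute_scalar (ht.L_le l.2) (hkm l⁻¹), Module.End.mul_apply, ← hkw l⁻¹, Subgroup.coe_inv,
      apply_inv_cancel, Module.End.one_apply]
  let e : Module.End F V := ∑ l : ht.L, k l⁻¹ * ρ (l : G)
  have he : ∀ x ∈ E, ∀ i, e (ρ x (c i)) =
      (∑ l : ht.L, ρ ⁅(l : G)⁻¹, x⁻¹⁆ : Module.End F V) (ρ x (c i)) := by
    intro x hx i
    simp only [e, LinearMap.sum_apply]
    refine Finset.sum_congr rfl fun l _ => ?_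
    have hC : ρ ⁅(l : G)⁻¹, x⁻¹⁆ ∈ alg ρ A := hl.scalar (hl.der _ (E.inv_mem (ht.L_le l.2)) _ (E.inv_mem hx))
    have e1 : ρ (l : G) (ρ x (c i)) = ρ x (ρ (l : G) (ρ ⁅(l : G)⁻¹, x⁻¹⁆ (c i))) := by
      simp only [← Module.End.mul_apply, ← map_mul]
      congr 2
      rw [commutatorElement_def]; group
    have e2 : ρ x * (ρ ⁅(l : G)⁻¹, x⁻¹⁆ * k l) = ρ ⁅(l : G)⁻¹, x⁻¹⁆ * k l * ρ x :=
      hl.commute_scalar hx (mul_mem hC (hkm l))
    rw [Module.End.mul_apply, e1, ← Module.End.mul_apply (ρ (l : G)), hl.commute_scalar (ht.L_le l.2) hC,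
      Module.End.mul_apply, hc i l l.2 (k l) (hkm l) (hkw l), ← Module.End.mul_apply _ (k l),
      ← Module.End.mul_apply (ρ x), e2, Module.End.mul_apply, ← Module.End.mul_apply (k l⁻¹), ← mul_assoc,
      hl.scal.comm _ (hkm l⁻¹) _ hC, mul_assoc, hkk, mul_one]
  have hzero : ∀ x ∈ E, x ∉ ht.N → (∑ l : ht.L, ρ ⁅(l : G)⁻¹, x⁻¹⁆ : Module.End F V) = 0 := by
    intro x hx hxN
    obtain ⟨l0, hl0, hne⟩ : ∃ l0 ∈ ht.L, ⁅l0⁻¹, x⁻¹⁆ ≠ 1 := by
      by_contra hcon
      push Not at hcon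
      refine hxN ⟨hx, fun l hlm => ?_⟩
      have := commutatorElement_eq_one_iff_mul_comm.1 (hcon l hlm)
      rw [← mul_inv_rev, ← mul_inv_rev, inv_inj] at this
      exact this
    have hmul : ρ ⁅l0⁻¹, x⁻¹⁆ * (∑ l : ht.L, ρ ⁅(l : G)⁻¹, x⁻¹⁆) = ∑ l : ht.L, ρ ⁅(l : G)⁻¹, x⁻¹⁆ := by
      rw [Finset.mul_sum, ← Equiv.sum_comp (Equiv.mulRight (⟨l0, hl0⟩ : ht.L)) (fun l : ht.L => ρ ⁅(l : G)⁻¹, x⁻¹⁆)]
      refine Finset.sum_congr rfl fun l _ => ?_
      rw [Equiv.coe_mulRight, ← map_mul, Subgroup.coe_mul, mul_inv_rev,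
        hl.comm_mul_left (E.inv_mem (ht.L_le l.2)) (E.inv_mem (ht.L_le hl0)) (E.inv_mem hx)]
    have h1 : (ρ ⁅l0⁻¹, x⁻¹⁆ - 1) * (∑ l : ht.L, ρ ⁅(l : G)⁻¹, x⁻¹⁆) = 0 := by
      rw [sub_mul, one_mul, hmul, sub_self]
    refine (hl.scal.eq_zero_or (sub_mem (hl.scalar (hl.der _ (E.inv_mem (ht.L_le hl0)) _ (E.inv_mem hx)))
      (one_mem _)) h1).resolve_left fun h2 => hne (hl.inj ((sub_eq_zero.1 h2).trans (map_one ρ).symm))
  have hcard : (Fintype.card ht.L : F) ≠ 0 := by
    intro h0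
    obtain ⟨p, hp⟩ := CharP.exists F
    have hd : p ∣ Fintype.card ht.L := (CharP.cast_eq_zero_iff F p _).1 h0
    rcases CharP.char_is_prime_or_zero F p with hpr | rfl
    · haveI := Fact.mk hpr
      obtain ⟨l, hlo⟩ := exists_prime_orderOf_dvd_card p hd
      have hl1 : (l : G) = 1 := hl.eq_one_of_pow_char (p := p) (ht.L_le l.2) (by
        rw [← Subgroup.coe_pow, ← hlo, pow_orderOf_eq_one, Subgroup.coe_one])
      rw [orderOf_eq_one_iff.2 (Subtype.ext hl1)] at hlo
      exact hpr.one_lt.ne hlo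
    · exact Fintype.card_ne_zero (Nat.zero_dvd.1 hd)
  intro i
  have h1 : ∑ j, ρ ((f i)⁻¹ * f j) (c j) = 0 := by
    simp only [map_mul, Module.End.mul_apply]
    rw [← map_sum, h, map_zero]
  have h2 := congrArg e h1
  rw [map_sum, map_zero, Finset.sum_eq_single i
    (fun j _ hj => by
      rw [he _ (E.mul_mem (E.inv_mem (hf i)) (hf j)), hzero _ (E.mul_mem (E.inv_mem (hf i)) (hf j))
        fun hN => hj (hinj i j hN).symm, LinearMap.zero_apply])
    (fun hi => absurd (Finset.mem_univ i) hi), he _ (E.mul_mem (E.inv_mem (hf i)) (hf i)),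
    inv_mul_cancel, map_one, Module.End.one_apply] at h2
  simp only [inv_one, commutatorElement_one_right, map_one, Finset.sum_const, Finset.card_univ,
    LinearMap.smul_apply, Module.End.one_apply] at h2
  rw [← Nat.cast_smul_eq_nsmul F] at h2
  exact (smul_eq_zero.1 h2).resolve_left hcard

/-- Two squares times two nonsquares summing to one. -/
theorem exists_norm_one (hK : IsScalars ρ A) {s s' : Module.End F V} (hs : s ∈ alg ρ A)
    (hs' : s' ∈ alg ρ A) (hsn : ∀ x ∈ alg ρ A, x * x ≠ s) (hsn' : ∀ x ∈ alg ρ A, x * x ≠ s')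
    (hneg : ∀ x ∈ alg ρ A, x * x ≠ -1) :
    ∃ a ∈ alg ρ A, ∃ b ∈ alg ρ A, b ≠ 0 ∧ a * a * s + b * b * s' = 1 := by
  obtain ⟨lam, hlam, hlam0, hgen⟩ := hK.exists_gen
  obtain ⟨x, hx, y, hy, hxy⟩ := hK.exists_two_squares hneg
  set t := x * x + y * y with ht
  have htm : t ∈ alg ρ A := add_mem (mul_mem hx hx) (mul_mem hy hy)
  have hodd : ∀ u ∈ alg ρ A, (∀ z ∈ alg ρ A, z * z ≠ u) → ∃ i, u = lam ^ (2 * i + 1) := by
    intro u hu hun
    obtain ⟨i, rfl⟩ := hgen u hu fun h0 => hun 0 (zero_mem _) (by rw [h0, mul_zero])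
    obtain ⟨j, rfl | rfl⟩ := Nat.even_or_odd' i
    · exact absurd (by rw [← pow_add, ← two_mul]) (hun _ (pow_mem hlam j))
    · exact ⟨j, rfl⟩
  have hquot : ∀ u ∈ alg ρ A, (∀ z ∈ alg ρ A, z * z ≠ u) → ∃ c ∈ alg ρ A, c * c * u = t := by
    intro u hu hun
    obtain ⟨i, hi⟩ := hodd u hu hun
    obtain ⟨j, hj⟩ := hodd t htm hxy
    obtain ⟨n, hn, hn'⟩ := hK.inv _ (pow_mem hlam i) (fun h0 => hun 0 (zero_mem _) (by
      rw [hi, pow_succ, two_mul, pow_add, h0, mul_zero, zero_mul]))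
    refine ⟨n * lam ^ j, mul_mem hn (pow_mem hlam j), ?_⟩
    have hc : Commute (lam ^ j) n := hK.comm _ (pow_mem hlam j) _ hn
    calc n * lam ^ j * (n * lam ^ j) * u = n * n * (lam ^ j * lam ^ j * u) := by
          rw [hc.mul_mul_mul_comm]; simp only [mul_assoc]
      _ = n * n * (lam ^ (i + i) * lam ^ (2 * j + 1)) := by
          rw [hi, ← pow_add, ← pow_add, ← pow_add]; ring_nf
      _ = t := by
          rw [hj, pow_add lam i i, ← mul_assoc, ← mul_assoc, mul_assoc n n, hn', mul_one, hn', one_mul]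
  obtain ⟨c, hc, hcs⟩ := hquot s hs hsn
  obtain ⟨c', hc', hcs'⟩ := hquot s' hs' hsn'
  obtain ⟨k, hk, hkt⟩ := hK.inv t htm fun h0 => hxy 0 (zero_mem _) (by rw [h0, mul_zero])
  letI : CommRing (alg ρ A) :=
    { (inferInstance : Ring (alg ρ A)) with
      mul_comm := fun u v => Subtype.ext (hK.comm u u.2 v v.2) }
  have hsum : c * x * k * (c * x * k) * s + c' * y * k * (c' * y * k) * s' = 1 := by
    have key : (⟨c, hc⟩ * ⟨x, hx⟩ * ⟨k, hk⟩ * (⟨c, hc⟩ * ⟨x, hx⟩ * ⟨k, hk⟩) * ⟨s, hs⟩ +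
        ⟨c', hc'⟩ * ⟨y, hy⟩ * ⟨k, hk⟩ * (⟨c', hc'⟩ * ⟨y, hy⟩ * ⟨k, hk⟩) * ⟨s', hs'⟩ : alg ρ A) =
        (⟨k, hk⟩ * ⟨t, htm⟩) * (⟨k, hk⟩ * (⟨x, hx⟩ * ⟨x, hx⟩ + ⟨y, hy⟩ * ⟨y, hy⟩)) := by
      have e1 : (⟨c, hc⟩ * ⟨c, hc⟩ * ⟨s, hs⟩ : alg ρ A) = ⟨t, htm⟩ := Subtype.ext hcs
      have e2 : (⟨c', hc'⟩ * ⟨c', hc'⟩ * ⟨s', hs'⟩ : alg ρ A) = ⟨t, htm⟩ := Subtype.ext hcs'
      linear_combination (⟨x, hx⟩ * ⟨x, hx⟩ * ⟨k, hk⟩ * ⟨k, hk⟩ : alg ρ A) * e1 +
        (⟨y, hy⟩ * ⟨y, hy⟩ * ⟨k, hk⟩ * ⟨k, hk⟩ : alg ρ A) * e2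
    have h := congrArg Subtype.val key
    push_cast at h
    rw [h, ← ht, hkt, one_mul]
  refine ⟨c * x * k, mul_mem (mul_mem hc hx) hk, c' * y * k, mul_mem (mul_mem hc' hy) hk, ?_, hsum⟩
  intro h0
  rw [h0, zero_mul, zero_mul, add_zero] at hsum
  refine hsn (c * x * k * s) (mul_mem (mul_mem (mul_mem hc hx) hk) hs) ?_
  set a := c * x * k
  have ha : a ∈ alg ρ A := mul_mem (mul_mem hc hx) hk
  calc a * s * (a * s) = s * (a * a * s) := by
        rw [← mul_assoc, hK.comm (a * s) (mul_mem ha hs) a ha, ← mul_assoc,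
          hK.comm (a * a * s) (mul_mem (mul_mem ha ha) hs) s hs]
    _ = s := by rw [hsum, mul_one]

/-- The trivial case: the chosen stabiliser is the scalars and the layer is generated by two elements. -/
theorem IsTop.three_vectors_small {w : V} (ht : IsTop ρ A E w) (hEN : E ≤ ht.N) :
    ∃ x y z : V, ∀ g : G, ρ g x = x → ρ g y = y → ρ g z = z → g = 1 := by
  classical
  have hl := ht.toIsLayer
  have hLA : ht.L ≤ A := fun l hlm =>
    hl.self l (hl.cent l (ht.L_le hlm)) fun f hf => ((hEN hf).2 l hlm).symm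
  obtain ⟨lam, hlam, hlam0, hgen⟩ := hl.scal.exists_gen
  have hcen : ∀ g (v : V), v ≠ 0 → ρ g v = v → ρ g (lam v) = lam v → ∀ a ∈ A, g * a = a * g := by
    intro g v hv h1 h2
    have h1' : ρ g⁻¹ v = v := by
      conv_lhs => rw [← h1]
      exact inv_apply_cancel ρ g v
    have hconj : ρ g * lam * ρ g⁻¹ = lam := hl.scal.eq_of_apply (hl.scal.conj g lam hlam) hlam hv (by
      simp only [Module.End.mul_apply, h1', h2])
    have hcl : Commute (ρ g) lam := by
      show ρ g * lam = lam * ρ g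
      conv_rhs => rw [← hconj]
      rw [mul_assoc, ← map_mul, inv_mul_cancel, map_one, mul_one]
    intro a ha
    refine hl.inj ?_
    rw [map_mul, map_mul]
    obtain ⟨i, hi⟩ := hgen _ (hl.scalar ha) fun e => by
      have := apply_inv_cancel ρ a w
      rw [e, LinearMap.zero_apply] at this
      exact ht.ne this.symm
    rw [hi, (hcl.pow_right i).eq]
  obtain ⟨m₁, hm₁, m₂, hm₂, hgens, hcase⟩ := ht.exists_gens
  rcases hcase with hNL | ⟨h1A, h2A, hanti, hneg, hs1, hs2⟩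
  · refine ⟨w, lam w, w, fun g h1 h2 _ => ?_⟩
    have hgA := hcen g w ht.ne h1 h2
    refine hl.eq_one (hl.self g hgA fun f hf => ?_) ht.ne h1
    exact hgA f (hLA (hNL (hEN hf)))
  obtain ⟨a, ha, b, hb, hb0, hab⟩ := exists_norm_one hl.scal (hl.scalar h1A) (hl.scalar h2A) hs1 hs2 hneg
  obtain ⟨b', hb', hbb⟩ := hl.scal.inv b hb hb0
  have hm1E := hm₁.1
  have hm2E := hm₂.1
  set ε := a * ρ m₁ + b * ρ m₂ with hε
  have hswap : ρ m₁ * ρ m₂ = -(ρ m₂ * ρ m₁) := by
    rw [← map_mul, ← map_mul, show m₁ * m₂ = ⁅m₁, m₂⁆ * (m₂ * m₁) by rw [commutatorElement_def]; group,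
      map_mul, hanti, neg_one_mul]
  have ca : ∀ {f : G}, f ∈ E → Commute (ρ f) a := fun hf => hl.commute_scalar hf ha
  have cb : ∀ {f : G}, f ∈ E → Commute (ρ f) b := fun hf => hl.commute_scalar hf hb
  have hεε : ε * ε = 1 := by
    rw [hε, add_mul, mul_add, mul_add, (ca hm1E).mul_mul_mul_comm, (cb hm2E).mul_mul_mul_comm,
      (cb hm1E).mul_mul_mul_comm, (ca hm2E).mul_mul_mul_comm, ← map_mul ρ m₁ m₁, ← map_mul ρ m₂ m₂, ← pow_two m₁,
      ← pow_two m₂, hswap, hl.scal.comm b hb a ha, mul_neg]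
    rw [← hab]
    abel
  obtain ⟨v, hv⟩ : ∃ v, v + ε v ≠ 0 := by
    by_contra hcon
    push Not at hcon
    have hεn : ε = -1 := LinearMap.ext fun v => by
      rw [LinearMap.neg_apply, Module.End.one_apply]
      exact eq_neg_of_add_eq_zero_right (hcon v)
    have e : ρ m₂ = b' * (-1 - a * ρ m₁) := by
      rw [← hεn, hε, add_sub_cancel_left, ← mul_assoc, hbb, one_mul]
    have hc : Commute (ρ m₁) (ρ m₂) := by
      rw [e]
      exact (show Commute (ρ m₁) b' from hl.commute_scalar hm1E hb').mul_right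
        (((Commute.one_right _).neg_right).sub_right ((ca hm1E).mul_right (Commute.refl _)))
    have h11 : (1 : Module.End F V) = -1 := by
      rw [← hanti, ← map_one ρ]
      refine congrArg ρ (commutatorElement_eq_one_iff_mul_comm.2 (hl.inj ?_)).symm
      rw [map_mul, map_mul]
      exact hc.eq
    exact hneg 1 (one_mem _) (by rw [mul_one]; exact h11)
  set u := v + ε v with hu
  have hεu : ε u = u := by
    rw [hu, map_add, ← Module.End.mul_apply, hεε, Module.End.one_apply, add_comm]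
  have hstab : ∀ f ∈ E, ρ f u = u → f ∈ A := by
    intro f hf hfu
    have hle := hl.le_lineStab hv
    have hcard : Nat.card (hl.lineStab hv) ≤ Nat.card A :=
      (ht.top _ hv).trans (Subgroup.card_le_of_le hLA)
    rw [Subgroup.eq_of_le_of_card_ge hle hcard]
    exact ⟨hf, 1, one_mem _, by rw [hfu, Module.End.one_apply]⟩
  refine ⟨u, ρ m₁ u, lam u, fun g h1 h2 h3 => ?_⟩
  have hgA := hcen g u hv h1 h3
  have hgk : ∀ k ∈ alg ρ A, ∀ x : V, ρ g (k x) = k (ρ g x) := fun k hk x => by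
    rw [← Module.End.mul_apply, commute_alg hgA hk, Module.End.mul_apply]
  have h4 : ρ g (ρ m₂ u) = ρ m₂ u := by
    have e : ρ m₂ u = b' (u - a (ρ m₁ u)) := by
      have e' : a (ρ m₁ u) + b (ρ m₂ u) = u := hεu
      rw [← eq_sub_of_add_eq' e', ← Module.End.mul_apply, hbb, Module.End.one_apply]
    rw [e, hgk b' hb', map_sub, hgk a ha, h1, h2]
  refine hl.eq_one_of_fix hgA hv fun f hf => ?_
  refine fix_closure (N := E) h1 (fun n hn => hl.normal.conj_mem n hn g)
    (fun l hlE hlu n hn => (hl.cent n hn l (hstab l hlE hlu)).symm)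
    (S := (A : Set G) ∪ {m₁, m₂}) ?_ ?_ f ?_
  · rintro x (hx | hx | hx)
    · exact hl.le hx
    · exact hx ▸ hm1E
    · exact (Set.mem_singleton_iff.1 hx) ▸ hm2E
  · rintro x (hx | rfl | rfl)
    · rw [hgk _ (hl.scalar hx), h1]
    · exact h2
    · exact h4
  · rw [Subgroup.closure_union, Subgroup.closure_eq]
    exact sup_le_sup_right hLA _ (hgens (hEN hf))

/-- The case of a nontrivial quotient of the layer by the centraliser. -/
theorem IsTop.three_vectors {w : V} (ht : IsTop ρ A E w) (hEN : ¬ E ≤ ht.N) :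
    ∃ x y z : V, ∀ g : G, ρ g x = x → ρ g y = y → ρ g z = z → g = 1 := by
  classical
  have hl := ht.toIsLayer
  obtain ⟨lam, hlam, hlam0, hgen⟩ := hl.scal.exists_gen
  have hAk : ∀ a ∈ A, ∃ i : ℕ, ρ a = lam ^ i := fun a ha => hgen _ (hl.scalar ha) fun e => by
    have := apply_inv_cancel ρ a w
    rw [e, LinearMap.zero_apply] at this
    exact ht.ne this.symm
  have hlam1 : lam ≠ 1 := by
    rintro rfl
    refine hEN fun f hf => ht.A_le_N (hl.self f (hl.cent f hf) fun h hh => ?_)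
    rw [← commutatorElement_eq_one_iff_mul_comm]
    obtain ⟨i, hi⟩ := hAk _ (hl.der f hf h hh)
    exact hl.inj (by rw [hi, one_pow, map_one])
  obtain ⟨m₁, hm₁, m₂, hm₂, hgens, -⟩ := ht.exists_gens
  set Nq := ht.N.subgroupOf E with hNq
  haveI hNn : Nq.Normal := ⟨fun n hn x => by
    rw [Subgroup.mem_subgroupOf] at hn ⊢
    have e : ((x * n * x⁻¹ : E) : G) = ⁅(x : G), (n : G)⁆ * n := by
      push_cast; rw [commutatorElement_def]; group
    rw [e]
    exact ht.N.mul_mem (ht.A_le_N (hl.der _ x.2 _ n.2)) hn⟩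
  letI : CommGroup (E ⧸ Nq) :=
    { (inferInstance : Group (E ⧸ Nq)) with
      mul_comm := by
        intro x y
        obtain ⟨x, rfl⟩ := QuotientGroup.mk_surjective x
        obtain ⟨y, rfl⟩ := QuotientGroup.mk_surjective y
        rw [← QuotientGroup.mk_mul, ← QuotientGroup.mk_mul, QuotientGroup.eq, Subgroup.mem_subgroupOf]
        push_cast
        rw [show ((x : G) * y)⁻¹ * (y * x) = ⁅(y : G)⁻¹, (x : G)⁻¹⁆ by rw [commutatorElement_def]; group]
        exact ht.A_le_N (hl.der _ (E.inv_mem y.2) _ (E.inv_mem x.2)) }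
  haveI := Fintype.ofFinite (E ⧸ Nq)
  obtain ⟨φ, hφ1, hrigid, -, hcol1⟩ := exists_colouring (E ⧸ Nq)
  haveI hWnt : Nontrivial (E ⧸ Nq) := by
    obtain ⟨f, hf, hfN⟩ := SetLike.not_le_iff_exists.1 hEN
    exact ⟨((⟨f, hf⟩ : E) : E ⧸ Nq), 1, fun h => hfN (Subgroup.mem_subgroupOf.1
      ((QuotientGroup.eq_one_iff _).1 h))⟩
  let T : E ⧸ Nq → G := fun v => if v = 1 then 1 else ((Quotient.out v : E) : G)
  have hT : ∀ v, ∃ hv : T v ∈ E, ((⟨T v, hv⟩ : E) : E ⧸ Nq) = v := by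
    intro v
    by_cases h : v = 1
    · subst h
      refine ⟨by simp [T], ?_⟩
      simp only [T, if_pos]
      exact QuotientGroup.mk_one _
    · refine ⟨by simp [T, h], ?_⟩
      simp only [T, if_neg h]
      exact Quotient.out_eq' v
  choose hTE hTm using hT
  have hT1 : T 1 = 1 := if_pos rfl
  have hTinj : ∀ u v, (T u)⁻¹ * T v ∈ ht.N → u = v := fun u v h => by
    rw [← hTm u, ← hTm v, QuotientGroup.eq, Subgroup.mem_subgroupOf]
    exact h
  -- eigenvectors for the line stabiliser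
  let P : V → Prop := fun x => ∀ l ∈ ht.L, ∀ k ∈ alg ρ A, ρ l w = k w → ρ l x = k x
  have hP0 : P 0 := fun l _ k _ _ => by rw [map_zero, map_zero]
  have hPw : P w := fun l _ k _ h => h
  have hPN : ∀ n ∈ ht.N, ∀ x, P x → P (ρ n x) := by
    intro n hn x hx l hlm k hk hlk
    rw [← Module.End.mul_apply, ← map_mul, ← hn.2 l hlm, map_mul, Module.End.mul_apply, hx l hlm k hk hlk,
      ← Module.End.mul_apply, hl.commute_scalar hn.1 hk, Module.End.mul_apply]
  have hPk : ∀ c ∈ alg ρ A, ∀ x, P x → P (c x) := by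
    intro c hc x hx l hlm k hk hlk
    rw [← Module.End.mul_apply, hl.commute_scalar (ht.L_le hlm) hc, Module.End.mul_apply, hx l hlm k hk hlk,
      ← Module.End.mul_apply, hl.scal.comm c hc k hk, Module.End.mul_apply]
  let col₁ : E ⧸ Nq → V := fun v => (![ρ m₁ w, w, w, 0, w] : Fin 5 → V) (φ v)
  let col₂ : E ⧸ Nq → V := fun v => (![ρ m₂ w, lam w, 0, w, w] : Fin 5 → V) (φ v)
  have hall : ∀ (a b c d e : V), P a → P b → P c → P d → P e → ∀ i, P ((![a, b, c, d, e] : Fin 5 → V) i) := by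
    intro a b c d e ha hb hc hd he i
    fin_cases i <;> assumption
  have hP₁ : ∀ v, P (col₁ v) := fun v => hall _ _ _ _ _ (hPN _ hm₁ w hPw) hPw hPw hP0 hPw (φ v)
  have hP₂ : ∀ v, P (col₂ v) := fun v =>
    hall _ _ _ _ _ (hPN _ hm₂ w hPw) (hPk _ hlam w hPw) hP0 hPw hPw (φ v)
  refine ⟨w, ∑ v, ρ (T v) (col₁ v), ∑ v, ρ (T v) (col₂ v), fun g hgw hgy hgz => ?_⟩
  have hgw' : ρ g⁻¹ w = w := by
    conv_lhs => rw [← hgw]
    exact inv_apply_cancel ρ g w
  have hgL : ∀ h : G, ρ h w = w → ∀ l ∈ ht.L, h * l * h⁻¹ ∈ ht.L := by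
    intro h hhw l hlm
    obtain ⟨hlE, k, hk, hkw⟩ := hlm
    have hhw' : ρ h⁻¹ w = w := by
      conv_lhs => rw [← hhw]
      exact inv_apply_cancel ρ h w
    refine ⟨hl.normal.conj_mem l hlE h, ρ h * k * ρ h⁻¹, hl.scal.conj h k hk, ?_⟩
    simp only [map_mul, Module.End.mul_apply, hhw', hkw]
  have hgN : ∀ h : G, ρ h w = w → ∀ n ∈ ht.N, h * n * h⁻¹ ∈ ht.N := by
    intro h hhw n hn
    refine ⟨hl.normal.conj_mem n hn.1 h, fun l hlm => ?_⟩
    have hhw' : ρ h⁻¹ w = w := by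
      conv_lhs => rw [← hhw]
      exact inv_apply_cancel ρ h w
    have := hn.2 _ (hgL h⁻¹ hhw' l hlm)
    calc h * n * h⁻¹ * l = h * (n * (h⁻¹ * l * h⁻¹⁻¹)) * h⁻¹ := by group
      _ = h * (h⁻¹ * l * h⁻¹⁻¹ * n) * h⁻¹ := by rw [this]
      _ = l * (h * n * h⁻¹) := by group
  have hPg : ∀ x, P x → P (ρ g x) := by
    intro x hx l hlm k hk hlk
    have h1 := hgL g⁻¹ hgw' l hlm
    have h2 := hx _ h1 (ρ g⁻¹ * k * ρ g⁻¹⁻¹) (hl.scal.conj g⁻¹ k hk) (by
      simp only [map_mul, inv_inv, Module.End.mul_apply, hgw, hlk])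
    have h3 := congrArg (ρ g) h2
    simpa [map_mul, Module.End.mul_apply, apply_inv_cancel] using h3
  -- the action on the quotient
  let cE : E →* E :=
    { toFun := fun x => ⟨g * x * g⁻¹, hl.normal.conj_mem x x.2 g⟩
      map_one' := Subtype.ext (by simp)
      map_mul' := fun x y => Subtype.ext (by
        show g * ((x * y : E) : G) * g⁻¹ = g * x * g⁻¹ * (g * y * g⁻¹)
        rw [Subgroup.coe_mul]; group) }
  let M : E ⧸ Nq →* E ⧸ Nq := QuotientGroup.map Nq Nq cE fun x hx => by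
    rw [Subgroup.mem_comap, Subgroup.mem_subgroupOf]
    exact hgN g hgw _ hx
  have hMinj : Function.Injective M := by
    rw [injective_iff_map_eq_one]
    intro x hx
    obtain ⟨x, rfl⟩ := QuotientGroup.mk_surjective x
    rw [QuotientGroup.map_mk, QuotientGroup.eq_one_iff, Subgroup.mem_subgroupOf] at hx
    rw [QuotientGroup.eq_one_iff, Subgroup.mem_subgroupOf]
    have := hgN g⁻¹ hgw' _ hx
    simpa [cE, mul_assoc] using this
  let nv : E ⧸ Nq → G := fun v => (T (M v))⁻¹ * (g * T v * g⁻¹)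
  have hnv : ∀ v, nv v ∈ ht.N := by
    intro v
    have h : M v = ((cE ⟨T v, hTE v⟩ : E) : E ⧸ Nq) := by
      conv_lhs => rw [← hTm v]
      exact QuotientGroup.map_mk _ _ _ _ _
    have h2 := (hTm (M v)).trans h
    rw [QuotientGroup.eq, Subgroup.mem_subgroupOf] at h2
    exact h2
  have key : ∀ c : E ⧸ Nq → V, (∀ v, P (c v)) → ρ g (∑ v, ρ (T v) (c v)) = ∑ v, ρ (T v) (c v) →
      ∀ v, ρ (nv v) (ρ g (c v)) = c (M v) := by
    intro c hc hfix
    let Me : (E ⧸ Nq) ≃ (E ⧸ Nq) := Equiv.ofBijective M (Finite.injective_iff_bijective.1 hMinj)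
    have h1 : ρ g (∑ v, ρ (T v) (c v)) = ∑ v, ρ (T (M v)) (ρ (nv v) (ρ g (c v))) := by
      rw [map_sum]
      refine Finset.sum_congr rfl fun v _ => ?_
      simp only [← Module.End.mul_apply, ← map_mul, nv]
      congr 2
      group
    have h2 : ∑ v, ρ (T (M v)) (ρ (nv v) (ρ g (c v)) - c (M v)) = 0 := by
      simp only [map_sub, Finset.sum_sub_distrib]
      rw [← h1, hfix, sub_eq_zero]
      exact (Me.sum_comp fun u => ρ (T u) (c u)).symm
    have h3 := ht.expansion_zero (fun v => T (M v)) (fun v => hTE _)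
      (fun u v h => hMinj (hTinj _ _ h)) (fun v => ρ (nv v) (ρ g (c v)) - c (M v))
      (fun v l hlm k hk hlk => by
        rw [map_sub, map_sub, hPN _ (hnv v) _ (hPg _ (hc v)) l hlm k hk hlk, hc _ l hlm k hk hlk]) h2
    exact fun v => sub_eq_zero.1 (h3 v)
  have k1 := key col₁ hP₁ hgy
  have k2 := key col₂ hP₂ hgz
  have hM1 : ∀ v, v ≠ 1 → M v ≠ 1 := fun v hv h => hv (hMinj (h.trans (map_one M).symm))
  have hinjR : ∀ v {x y : V}, ρ (nv v) (ρ g x) = ρ (nv v) (ρ g y) → x = y := fun v x y h =>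
    apply_injective ρ g (apply_injective ρ (nv v) h)
  have hlw : lam w ≠ 0 := fun h => hlam0 (hl.scal.eq_zero hlam ht.ne h)
  have hlne : lam w ≠ w := fun h => hlam1 (hl.scal.eq_of_apply hlam (one_mem _) ht.ne
    (by rw [h, Module.End.one_apply]))
  have hfive : ∀ i : Fin 5, i = 0 ∨ i = 1 ∨ i = 2 ∨ i = 3 ∨ i = 4 := by decide
  have hR0 : ∀ v {x : V}, x ≠ 0 → ρ (nv v) (ρ g x) ≠ 0 := fun v x hx h =>
    hx (hinjR v (h.trans (by rw [map_zero, map_zero])))
  have hpat : ∀ v, φ (M v) = φ v := by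
    intro v
    by_cases hv : v = 1
    · subst hv; rw [map_one]
    have e1 := k1 v
    have e2 := k2 v
    have hv0 : φ v ≠ 0 := fun h => hv ((hφ1 v).1 h)
    have hMv0 : φ (M v) ≠ 0 := fun h => hM1 v hv ((hφ1 _).1 h)
    have hw0 := hR0 v ht.ne
    have hlw0 := hR0 v hlw
    rcases hfive (φ v) with h | h | h | h | h
    · exact absurd h hv0
    all_goals
      rcases hfive (φ (M v)) with h' | h' | h' | h' | h'
      · exact absurd h' hMv0
      all_goals
        simp [col₁, col₂, h, h'] at e1 e2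
        first
          | exact h'.trans h.symm
          | exact absurd e1 hw0
          | exact absurd e2 hw0
          | exact absurd e2 hlw0
          | exact absurd e1.symm ht.ne
          | exact absurd e2.symm ht.ne
          | exact absurd e2.symm hlw
          | exact absurd (hinjR v (e2.trans e1.symm)) hlne
          | exact absurd (e2.symm.trans e1) hlne
          | exact absurd (e2.symm.trans e1).symm hlne
  have hMid := hrigid M hMinj hpat
  have hMv : ∀ v, M v = v := fun v => by rw [hMid, MonoidHom.id_apply]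
  have hnw : ∀ v, ρ (nv v) w = w := by
    intro v
    by_cases hv : v = 1
    · subst hv
      simp [nv, hT1, map_one M]
    have e1 := k1 v
    have e2 := k2 v
    rw [hMv] at e1 e2
    rcases hfive (φ v) with h | h | h | h | h
    · exact absurd ((hφ1 v).1 h) hv
    all_goals simp [col₁, col₂, h, hgw] at e1 e2
    all_goals first | exact e1 | exact e2
  have hnL : ∀ v, nv v ∈ ht.L := fun v =>
    ⟨(hnv v).1, 1, one_mem _, by rw [hnw, Module.End.one_apply]⟩
  obtain ⟨v1, hv1⟩ := hcol1 hWnt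
  have hconj : ρ g * lam * ρ g⁻¹ = lam := by
    refine hl.scal.eq_of_apply (hl.scal.conj g lam hlam) hlam ht.ne ?_
    have e2 := k2 v1
    rw [hMv] at e2
    simp [col₂, hv1] at e2
    have h3 : ρ g (lam w) = (ρ g * lam * ρ g⁻¹) w := by
      simp only [Module.End.mul_apply, hgw']
    rw [← e2, h3, ← Module.End.mul_apply (ρ (nv v1)),
      hl.commute_scalar (hnv v1).1 (hl.scal.conj g lam hlam), Module.End.mul_apply _ (ρ (nv v1)), hnw]
  have hgA : ∀ a ∈ A, g * a = a * g := by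
    have hcl : Commute (ρ g) lam := by
      show ρ g * lam = lam * ρ g
      conv_rhs => rw [← hconj]
      rw [mul_assoc, ← map_mul, inv_mul_cancel, map_one, mul_one]
    intro a ha
    obtain ⟨i, hi⟩ := hAk a ha
    exact hl.inj (by rw [map_mul, map_mul, hi, (hcl.pow_right i).eq])
  have hgm : ρ g (ρ m₁ w) = ρ m₁ w ∧ ρ g (ρ m₂ w) = ρ m₂ w := by
    have hn1 : nv 1 = 1 := by simp [nv, hT1, map_one M]
    have e1 := k1 1
    have e2 := k2 1
    rw [map_one, hn1, map_one] at e1 e2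
    simp [col₁, col₂, (hφ1 1).2 rfl] at e1 e2
    exact ⟨e1, e2⟩
  have hN : ∀ n ∈ ht.N, ρ g (ρ n w) = ρ n w := by
    intro n hn
    refine fix_closure hgw (hgN g hgw)
      (fun l hlN hlw n' hn' => (hn'.2 l ⟨hlN.1, 1, one_mem _, by rw [hlw, Module.End.one_apply]⟩).symm)
      (S := (ht.L : Set G) ∪ {m₁, m₂}) ?_ ?_ n ?_
    · rintro x (hx | hx | hx)
      · exact ht.L_le_N hx
      · exact hx ▸ hm₁
      · exact (Set.mem_singleton_iff.1 hx) ▸ hm₂
    · rintro x (hx | rfl | rfl)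
      · obtain ⟨-, k, hk, hxk⟩ := hx
        rw [hxk, ← Module.End.mul_apply, commute_alg hgA hk, Module.End.mul_apply, hgw]
      · exact hgm.1
      · exact hgm.2
    · rw [Subgroup.closure_union, Subgroup.closure_eq]
      exact hgens hn
  refine hl.eq_one_of_fix hgA ht.ne fun f hf => ?_
  set v : E ⧸ Nq := ((⟨f, hf⟩ : E) : E ⧸ Nq) with hv
  have hm : (T v)⁻¹ * f ∈ ht.N := by
    have := hTm v
    rw [hv, QuotientGroup.eq, Subgroup.mem_subgroupOf] at this
    exact this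
  have e : g * f = T v * nv v * g * ((T v)⁻¹ * f) := by
    simp only [nv, hMv]
    group
  rw [← Module.End.mul_apply, ← map_mul, e, map_mul _ (T v * nv v * g), map_mul _ (T v * nv v),
    Module.End.mul_apply, Module.End.mul_apply, hN _ hm,
    ← Module.End.mul_apply, ← map_mul, mul_assoc (T v), ← hm.2 _ (hnL v), ← mul_assoc, map_mul,
    Module.End.mul_apply, hnw, mul_inv_cancel_left]

/-- Three vectors with trivial common stabiliser for a primitive soluble linear group. -/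
theorem three_vectors_primitive (ρ : G →* Module.End F V) (hρ : Function.Injective ρ) (hirr : Irred ρ)
    (hprim : NoDecomp ρ) (hsol : Group.IsSolvable G) :
    ∃ x y z : V, ∀ g : G, ρ g x = x → ρ g y = y → ρ g z = z → g = 1 := by
  classical
  haveI := Fintype.ofFinite (Subgroup G)
  obtain ⟨A, hAmem, hAmax⟩ := Finset.exists_max_image
    (Finset.univ.filter fun B : Subgroup G => B.Normal ∧ IsMulCommutative B) (fun B => Nat.card B)
    ⟨⊥, Finset.mem_filter.2 ⟨Finset.mem_univ _, inferInstance,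
      ⟨⟨fun a b => Subsingleton.elim _ _⟩⟩⟩⟩
  obtain ⟨hAn, hAc⟩ := (Finset.mem_filter.1 hAmem).2
  haveI := hAn
  have hmax : ∀ B : Subgroup G, B.Normal → IsMulCommutative B → A ≤ B → B = A := fun B hB hBc hAB =>
    (Subgroup.eq_of_le_of_card_ge hAB (hAmax B (Finset.mem_filter.2 ⟨Finset.mem_univ _, hB, hBc⟩))).symm
  have hK := isScalars hirr hprim hAc
  obtain ⟨E, hEn, hAE, hEC, hEd, hEx, hself⟩ := exists_layer hsol hAc hmax
  have hscal : ∀ g : G, ρ g ∈ alg ρ A → g ∈ A := by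
    let B : Subgroup G :=
      { carrier := {g | ρ g ∈ alg ρ A}
        one_mem' := by show ρ 1 ∈ alg ρ A; rw [map_one]; exact one_mem _
        mul_mem' := fun {a b} ha hb => by show ρ (a * b) ∈ alg ρ A; rw [map_mul]; exact mul_mem ha hb
        inv_mem' := fun {a} ha => by
          show ρ a⁻¹ ∈ alg ρ A
          rw [show a⁻¹ = a ^ (orderOf a - 1) from inv_eq_of_mul_eq_one_right (by
            rw [← pow_succ', Nat.sub_add_cancel (orderOf_pos a), pow_orderOf_eq_one]), map_pow]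
          exact pow_mem ha _ }
    have hBn : B.Normal := ⟨fun b hb g => by
      show ρ (g * b * g⁻¹) ∈ alg ρ A
      rw [map_mul, map_mul]
      exact alg_conj ρ g hb⟩
    have hBc : IsMulCommutative B := ⟨⟨fun a b => Subtype.ext (hρ (by
      rw [Subgroup.coe_mul, Subgroup.coe_mul, map_mul, map_mul, hK.comm _ a.2 _ b.2]))⟩⟩
    have hAB : A ≤ B := fun a ha => Algebra.subset_adjoin ⟨a, ha, rfl⟩
    intro g hg
    rw [← hmax B hBn hBc hAB]
    exact hg
  have hl : IsLayer ρ A E := ⟨hK, hρ, hscal,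
    fun a ha b hb => congrArg Subtype.val (hAc.is_comm.comm ⟨a, ha⟩ ⟨b, hb⟩), hEn, hAE, hEC, hEd, hEx, hself⟩
  obtain ⟨w, ht⟩ := exists_isTop hl
  by_cases hEN : E ≤ ht.N
  · exact ht.three_vectors_small hEN
  · exact ht.three_vectors hEN

end Cfsg.Agent.SolBase
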