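import Cfsg.Agent.Lib.PrimSol.Fixed

/-!
The field spanned by an abelian normal subgroup of a primitive linear group.
-/

set_option autoImplicit false
set_option linter.style.haveILetI false
set_option linter.unusedSectionVars false

namespace Cfsg.Agent.SolBase

open PrimSol

variable {F : Type*} [Field F] {V : Type*} [AddCommGroup V] [Module F V] [FiniteDimensional F V]
  [Finite V] [Nontrivial V] {G : Type*} [Group G] [Finite G] (ρ : G →* Module.End F V)
  (A : Subgroup G)

/-- The scalars: a commutative algebra with inverses and a generator of the nonzero elements. -/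
structure IsScalars : Prop where
  comm : ∀ x ∈ alg ρ A, ∀ y ∈ alg ρ A, x * y = y * x
  inv : ∀ k ∈ alg ρ A, k ≠ 0 → ∃ k' ∈ alg ρ A, k' * k = 1
  conj : ∀ g : G, ∀ k ∈ alg ρ A, ρ g * k * ρ g⁻¹ ∈ alg ρ A

variable {ρ A}

theorem isScalars [A.Normal] (hirr : Irred ρ) (hprim : NoDecomp ρ) (hA : IsMulCommutative A) :
    IsScalars ρ A := by
  refine ⟨fun x hx y hy => alg_comm ρ hA hx hy, fun k hk hk0 => ?_, fun g k hk => alg_conj ρ g hk⟩
  haveI : Finite (Module.End F V) := Finite.of_injective _ DFunLike.coe_injective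
  obtain ⟨i, j, hij, he⟩ : ∃ i j, i < j ∧ k ^ i = k ^ j := by
    obtain ⟨i, j, hne, he⟩ := Finite.exists_ne_map_eq_of_infinite fun c : ℕ => k ^ c
    rcases lt_or_gt_of_ne hne with h | h
    · exact ⟨i, j, h, he⟩
    · exact ⟨j, i, h, he.symm⟩
  have hper : ∀ l c, i ≤ c → k ^ (c + l * (j - i)) = k ^ c := by
    intro l
    induction l with
    | zero => intro c _; simp
    | succ l ih =>
      intro c hc
      rw [show c + (l + 1) * (j - i) = (c - i) + j + l * (j - i) by rw [Nat.succ_mul]; omega,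
        ih _ (by omega), pow_add, ← he, ← pow_add, Nat.sub_add_cancel hc]
  have hm : i ≤ (i + 1) * (j - i) := le_trans (by omega) (Nat.le_mul_of_pos_right (i + 1) (by omega))
  have hm0 : (i + 1) * (j - i) ≠ 0 := Nat.mul_ne_zero i.succ_ne_zero (by omega)
  have hid : k ^ ((i + 1) * (j - i)) * k ^ ((i + 1) * (j - i)) = k ^ ((i + 1) * (j - i)) := by
    rw [← pow_add, hper _ _ hm]
  rcases alg_idem ρ hirr hprim hA (pow_mem hk _) hid with h | h
  · exact absurd (alg_reduced ρ hirr hA hk h) hk0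
  · refine ⟨k ^ ((i + 1) * (j - i) - 1), pow_mem hk _, ?_⟩
    rw [← pow_succ, Nat.sub_add_cancel (Nat.pos_of_ne_zero hm0), h]

variable (hK : IsScalars ρ A)
include hK

theorem IsScalars.eq_zero {k : Module.End F V} (hk : k ∈ alg ρ A) {v : V} (hv : v ≠ 0)
    (h : k v = 0) : k = 0 := by
  by_contra hk0
  obtain ⟨k', -, hk'⟩ := hK.inv k hk hk0
  apply hv
  have := congrArg k' h
  rwa [map_zero, ← Module.End.mul_apply, hk', Module.End.one_apply] at this

theorem IsScalars.eq_of_apply {k k' : Module.End F V} (hk : k ∈ alg ρ A) (hk' : k' ∈ alg ρ A) {v : V}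
    (hv : v ≠ 0) (h : k v = k' v) : k = k' :=
  sub_eq_zero.1 (hK.eq_zero (sub_mem hk hk') hv (by rw [LinearMap.sub_apply, h, sub_self]))

theorem IsScalars.eq_zero_or {x y : Module.End F V} (hx : x ∈ alg ρ A) (h : x * y = 0) :
    x = 0 ∨ y = 0 := by
  by_cases hx0 : x = 0
  · exact Or.inl hx0
  obtain ⟨k', -, hk'⟩ := hK.inv x hx hx0
  right
  calc y = k' * x * y := by rw [hk', one_mul]
    _ = 0 := by rw [mul_assoc, h, mul_zero]

/-- A generator of the nonzero scalars. -/
theorem IsScalars.exists_gen : ∃ lam ∈ alg ρ A, lam ≠ 0 ∧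
    ∀ k ∈ alg ρ A, k ≠ 0 → ∃ i : ℕ, k = lam ^ i := by
  haveI : Finite (Module.End F V) := Finite.of_injective _ DFunLike.coe_injective
  letI : CommRing (alg ρ A) :=
    { (inferInstance : Ring (alg ρ A)) with
      mul_comm := fun x y => Subtype.ext (hK.comm x x.2 y y.2) }
  haveI : Nontrivial (alg ρ A) := ⟨0, 1, fun h => zero_ne_one (congrArg Subtype.val h)⟩
  haveI : NoZeroDivisors (alg ρ A) := ⟨fun {x y} h =>
    (hK.eq_zero_or x.2 (congrArg Subtype.val h)).imp Subtype.ext Subtype.ext⟩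
  haveI : IsDomain (alg ρ A) := NoZeroDivisors.to_isDomain _
  obtain ⟨u, hu⟩ := IsCyclic.exists_monoid_generator (α := (alg ρ A)ˣ)
  refine ⟨((u : alg ρ A) : Module.End F V), (u : alg ρ A).2, fun h => u.ne_zero (Subtype.ext h), ?_⟩
  intro k hk hk0
  obtain ⟨k', hk', he⟩ := hK.inv k hk hk0
  let v : (alg ρ A)ˣ := ⟨⟨k, hk⟩, ⟨k', hk'⟩, Subtype.ext (by
    show k * k' = 1
    rw [hK.comm k hk k' hk', he]), Subtype.ext he⟩
  obtain ⟨i, hi⟩ := hu v
  exact ⟨i, by
    have := congrArg (fun x : (alg ρ A)ˣ => ((x : alg ρ A) : Module.End F V)) hi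
    simpa [v] using this.symm⟩

omit hK in
/-- The scalar elements commute with the centraliser. -/
theorem commute_alg {g : G} (h : ∀ a ∈ A, g * a = a * g) {k : Module.End F V} (hk : k ∈ alg ρ A) :
    ρ g * k = k * ρ g := by
  induction hk using Algebra.adjoin_induction with
  | mem x hx =>
    obtain ⟨a, ha, rfl⟩ := hx
    rw [← map_mul, ← map_mul, h a ha]
  | algebraMap r => exact (Algebra.commute_algebraMap_right r _).eq
  | add x y _ _ hx hy => rw [mul_add, add_mul, hx, hy]
  | mul x y _ _ hx hy => rw [← mul_assoc, hx, mul_assoc, hy, ← mul_assoc]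

/-- The squares are not closed under addition when minus one is not a square. -/
theorem IsScalars.exists_two_squares (hneg : ∀ x ∈ alg ρ A, x * x ≠ -1) :
    ∃ x ∈ alg ρ A, ∃ y ∈ alg ρ A, ∀ z ∈ alg ρ A, z * z ≠ x * x + y * y := by
  by_contra hcon
  push Not at hcon
  haveI : Finite (Module.End F V) := Finite.of_injective _ DFunLike.coe_injective
  haveI : Finite F := Finite.of_injective (algebraMap F (Module.End F V))
    (FaithfulSMul.algebraMap_injective F _)
  have hn : ∀ n : ℕ, ∃ z ∈ alg ρ A, z * z = (n : Module.End F V) := by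
    intro n
    induction n with
    | zero => exact ⟨0, zero_mem _, by simp⟩
    | succ n ih =>
      obtain ⟨z, hz, hzz⟩ := ih
      obtain ⟨w, hw, hww⟩ := hcon z hz 1 (one_mem _)
      exact ⟨w, hw, by rw [hww, hzz, one_mul, Nat.cast_succ]⟩
  obtain ⟨p, hp⟩ := CharP.exists F
  have hp0 : 0 < p := Nat.pos_of_ne_zero fun h => by
    subst h
    haveI := CharP.charP_to_charZero F
    haveI := Fintype.ofFinite F
    exact not_finite F
  obtain ⟨z, hz, hzz⟩ := hn (p - 1)
  refine hneg z hz ?_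
  rw [hzz, ← map_natCast (algebraMap F (Module.End F V)), Nat.cast_sub hp0, CharP.cast_eq_zero,
    Nat.cast_one, zero_sub, map_neg, map_one]

end Cfsg.Agent.SolBase
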